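import Cfsg.Agent.Mrg.Omega.NO3b.Wc.Frame
import Cfsg.Agent.Mrg.Omega.NO3b.EZeroBase
import Cfsg.Agent.Mrg.Omega.NO3b.Union.Line
import Cfsg.Agent.Mrg.Omega.NO3b.Chain.Frame
import Cfsg.Agent.Mrg.Omega.NO3b.Exit.TwoFac
import Cfsg.Agent.Mrg.Omega.NO3b.Closed.CountB
import Cfsg.Agent.Mrg.Omega.NO3b.Exit.LocalExit
import Cfsg.Agent.Mrg.Omega.NO3b.Exit.Bridge
import Cfsg.Agent.Mrg.Omega.NO3b.Exit.LocBar
import Cfsg.Agent.Mrg.Omega.NO3b.Chain.Group
import Cfsg.Agent.Mrg.Omega.NO3S.Level.Cut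
import Cfsg.Agent.Mrg.Omega.NO3b.BetaTwo.FamPlug
import Cfsg.Agent.Mrg.Omega.NO3b.TheoremL.Core2
import Cfsg.Agent.Mrg.Omega.NO3b.Exit.TenSplit
import Cfsg.Agent.Mrg.Omega.NO3b.BetaTwo.NoOver
import Cfsg.Agent.Mrg.Omega.NO3b.Base.MoveCent
import Cfsg.Agent.Mrg.Omega.NO3b.BasePt.Def
import Cfsg.Agent.Mrg.Omega.NO3b.BasePt.FamU
import Cfsg.Agent.Mrg.Omega.NO3b.Exit.BlkBP
import Cfsg.Agent.Mrg.Omega.NOThreeL.EndFiveKey
import Cfsg.Agent.Mrg.Omega.NO3S.Fld.LevEnd

-- merged: Cfsg.Agent.Mrg.Omega.NO3b.Seed.Frame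
section

/-!
# The w.c. frame with a seed `Y` (#20856 (1))

The frame `Wc/Frame.lean` with `⟨Y^L⟩ = cl Y L` in place of `⟨Ω₁(Z(S))^L⟩`, for a subgroup `Y ≥ Ω₁(Z(S))`.

* `QL S Y L = C_S(⟨Y^L⟩)`, `WH S Y L` : the largest weakly closed subgroup of `S` in it, `ML S Y L = N_G(WH S Y L)`,
  `VL S Y L = ⟨Y^M⟩`;
* `Root S Y L` : `S ≤ L`, `Ω₁(Z(S)) ≤ Y`, `⟨Y^L⟩` elementary abelian, not FF, `L ≤ N(C_S(⟨Y^L⟩))`;
* `Root.cs_V`, `Root.principle`, `Root.V_nff`, `Root.lines` : as there;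
* `Root.WH_eq`, `Root.VL_eq` : if `C_S(⟨Y^L⟩)` is weakly closed and its normaliser normalises `⟨Y^L⟩`.
-/

set_option autoImplicit false
set_option linter.unusedSectionVars false

namespace Cfsg.Agent.Omega.NO3b.Seed

open Subgroup Cfsg
open Cfsg.Agent.ZN (o2 zc zl jj zj)
open Cfsg.Agent.ZN.ChoiceBase hiding mem_zc
open Cfsg.Agent.ZN.ChoiceSit (exists_syl syl_conj o2_le_syl)
open Cfsg.Agent.Omega.MinPar Cfsg.Agent.Omega.Frame
open Cfsg.Agent.Omega.NO3b.EZero (NotFF cent_symm cj_cent cj_norm cj_eq_cj_iff cl le_cl cj_le_cl cl_le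
  le_normalizer_cl)
open Cfsg.Agent.Omega.NO3b.Wc (WC cj_sSup)
open Cfsg.Agent.Omega.FFThm (ElemM OffM NoOverM)
open Cfsg.Agent.Omega.NOThreeL.Star (Opt Ok exists_opt card_sup_mul rel_mul_card)
open Cfsg.Agent.MinSimple.VModule (mem_zc le_centralizer_zc zc_sq le_normalizer_o2 o2_isPGroup le_o2 zc_comm
  normalizer_le_normalizer_zc)

universe u

variable {G : Type u} [Group G]

/-- `⟨Y^L⟩ ≤ A` if `Y ≤ A` and `L` normalises `A`. -/
theorem cl_le' {Y L A : Subgroup G} (h : Y ≤ A) (hL : L ≤ normalizer (A : Set G)) : cl Y L ≤ A :=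
  cl_le fun p hp => (cj_mono p h).trans (cj_eq_of_mem_normalizer (hL hp)).le

theorem cl_mono (Y : Subgroup G) {L L' : Subgroup G} (h : L ≤ L') : cl Y L ≤ cl Y L' :=
  cl_le fun _ hp => cj_le_cl (h hp)

theorem cl_mono_left {Y Y' : Subgroup G} (L : Subgroup G) (h : Y ≤ Y') : cl Y L ≤ cl Y' L :=
  cl_le fun p hp => (cj_mono p h).trans (cj_le_cl hp)

/-- `⟨Y^L⟩ = Y` if `L` normalises `Y`. -/
theorem cl_eq {Y L : Subgroup G} (hL : L ≤ normalizer (Y : Set G)) : cl Y L = Y :=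
  le_antisymm (cl_le' le_rfl hL) (le_cl _ _)

/-- `⟨Ω₁(Z(S))^L⟩ ≤ ⟨Y^L⟩` -/
theorem zl_le_cl {S Y : Subgroup G} (h : zc S ≤ Y) (L : Subgroup G) : zl S L ≤ cl Y L :=
  MinSimple.VModule.zl_le (h.trans (le_cl _ _)) (le_normalizer_cl _ _)

/-- The hypotheses. -/
structure Root [Finite G] (S : Sylow 2 G) (Y L : Subgroup G) : Prop where
  le : (S : Subgroup G) ≤ L
  ZY : zc (S : Subgroup G) ≤ Y
  comm : cl Y L ≤ centralizer (cl Y L : Set G)
  sq : ∀ v ∈ cl Y L, v ^ 2 = 1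
  nff : NotFF (cl Y L)
  cs : L ≤ normalizer (((S : Subgroup G) ⊓ centralizer (cl Y L : Set G) : Subgroup G) : Set G)

/-- `C_S(⟨Y^L⟩)` -/
def QL (S Y L : Subgroup G) : Subgroup G := S ⊓ centralizer (cl Y L : Set G)

/-- The largest weakly closed subgroup of `S` in `C_S(⟨Y^L⟩)`. -/
def WH (S Y L : Subgroup G) : Subgroup G := sSup {B | WC S B ∧ B ≤ QL S Y L}

/-- `M = N_G(W^)` -/
def ML (S Y L : Subgroup G) : Subgroup G := normalizer (WH S Y L : Set G)

/-- `V = ⟨Y^M⟩` -/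
def VL (S Y L : Subgroup G) : Subgroup G := cl Y (ML S Y L)

theorem wc_WH (S Y L : Subgroup G) : WC S (WH S Y L) := WC.sSup fun _ hb => hb.1

theorem WH_le (S Y L : Subgroup G) : WH S Y L ≤ QL S Y L := sSup_le fun _ hb => hb.2

theorem WH_le_S (S Y L : Subgroup G) : WH S Y L ≤ S := (WH_le S Y L).trans inf_le_left

theorem le_WH {S Y L B : Subgroup G} (h : WC S B) (hB : B ≤ QL S Y L) : B ≤ WH S Y L := le_sSup ⟨h, hB⟩

theorem mem_ML_of_le {S Y L : Subgroup G} {g : G} (h : cj g (WH S Y L) ≤ S) : g ∈ ML S Y L :=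
  mem_normalizer_iff_cj.2 ((wc_WH S Y L).eq g h)

theorem ML_le_norm_V (S Y L : Subgroup G) : ML S Y L ≤ normalizer (VL S Y L : Set G) := le_normalizer_cl _ _

theorem Y_le_V (S Y L : Subgroup G) : Y ≤ VL S Y L := le_cl _ _

namespace Root

variable [Finite G] {S : Sylow 2 G} {Y L : Subgroup G} (h : Root S Y L)
include h

theorem L_le : L ≤ ML (S : Subgroup G) Y L := by
  intro l hl
  refine mem_ML_of_le ?_
  have h1 := cj_mono l (WH_le (S : Subgroup G) Y L)
  have h2 : cj l (QL (S : Subgroup G) Y L) = QL (S : Subgroup G) Y L := cj_eq_of_mem_normalizer (h.cs hl)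
  rw [h2] at h1
  exact h1.trans inf_le_left

theorem S_le : (S : Subgroup G) ≤ ML (S : Subgroup G) Y L := h.le.trans h.L_le

omit h in
/-- `N_G(T) ≤ M` for `W^ ≤ T ≤ S`. -/
theorem norm_le {T : Subgroup G} (h1 : WH (S : Subgroup G) Y L ≤ T) (h2 : T ≤ (S : Subgroup G)) :
    normalizer (T : Set G) ≤ ML (S : Subgroup G) Y L := by
  intro n hn
  refine mem_ML_of_le ?_
  have h3 := cj_mono n h1
  rw [cj_eq_of_mem_normalizer hn] at h3
  exact h3.trans h2

omit h in
theorem NS_le : normalizer ((S : Subgroup G) : Set G) ≤ ML (S : Subgroup G) Y L := norm_le (WH_le_S _ _ _) le_rfl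

theorem cl_le_S : cl Y L ≤ (S : Subgroup G) :=
  MinPar.le_of_le_normalizer S (NO3b.NoEmp.pgroup_of_sq h.sq) (h.le.trans (le_normalizer_cl _ _))

/-- `J(S)` centralises `⟨Y^L⟩` -/
theorem jj_cent : jj (S : Subgroup G) ≤ centralizer (cl Y L : Set G) := by
  rw [ZN.ChoiceBase.jj_eq]
  refine sSup_le fun A hA => ?_
  by_contra hne
  have h1 := FFThm.off_of_AA (V := cl Y L) ⟨⟨⟨fun a b => Subtype.ext
    (mem_centralizer_iff.1 (h.comm b.2) a a.2)⟩⟩, h.sq⟩ h.cl_le_S hA hne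
  have h2 := h1.offM
  have hAS : A ≤ (S : Subgroup G) := hA.2.1
  have h3 := h.nff A (S.isPGroup'.to_le hAS) (hAS.trans (h.le.trans (le_normalizer_cl _ _))) h2.sq h2.comm hne
  exact absurd (FFThm.relIndex_le_iff.1 h2.le) (not_le.2 h3)

/-- `J(S) ≤ W^` -/
theorem jj_le : jj (S : Subgroup G) ≤ WH (S : Subgroup G) Y L := by
  refine le_WH ⟨ZN.ChoiceBase.jj_le _, fun g hg => ?_⟩ (le_inf (ZN.ChoiceBase.jj_le _) h.jj_cent)
  have h1 : jj (S : Subgroup G) ≤ cj g⁻¹ (S : Subgroup G) := cj_le_iff.1 hg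
  have h2 := MinSimple.EmptyTI.jj_eq S (isPGroup_cj g⁻¹ S.isPGroup') h1
  rw [jj_cj] at h2
  have h3 := congrArg (cj g) h2
  rw [cj_cj_inv] at h3
  exact h3.symm

/-- `⟨Y^L⟩ ≤ J(S)` -/
theorem cl_le_jj : cl Y L ≤ jj (S : Subgroup G) := fun x hx =>
  mem_jj_of_comm (h.cl_le_S hx) (h.sq x hx) fun _ hy => (mem_centralizer_iff.1 (h.jj_cent hy) x hx).symm

theorem Y_le_WH : Y ≤ WH (S : Subgroup G) Y L := ((le_cl _ _).trans h.cl_le_jj).trans h.jj_le

/-- `V ≤ Ω₁(Z(W^))` -/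
theorem V_le : VL (S : Subgroup G) Y L ≤ zc (WH (S : Subgroup G) Y L) := by
  refine cl_le' ?_ (normalizer_le_normalizer_zc _)
  intro x hx
  refine mem_zc.2 ⟨h.Y_le_WH hx, fun y hy => ?_, h.sq x (le_cl _ _ hx)⟩
  exact (mem_centralizer_iff.1 ((WH_le _ _ _ hy).2) x (le_cl _ _ hx)).symm

theorem V_comm : VL (S : Subgroup G) Y L ≤ centralizer (VL (S : Subgroup G) Y L : Set G) := by
  intro x hx
  rw [mem_centralizer_iff]
  intro y hy
  exact zc_comm _ _ (h.V_le hy) _ (h.V_le hx)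

theorem V_sq : ∀ v ∈ VL (S : Subgroup G) Y L, v ^ 2 = 1 := fun v hv => zc_sq _ v (h.V_le hv)

theorem V_le_S : VL (S : Subgroup G) Y L ≤ (S : Subgroup G) := (h.V_le.trans (ZN.zc_le _)).trans (WH_le_S _ _ _)

theorem cl_le_V : cl Y L ≤ VL (S : Subgroup G) Y L := cl_mono _ h.L_le

theorem zc_le_V : zc (S : Subgroup G) ≤ VL (S : Subgroup G) Y L := h.ZY.trans (le_cl _ _)

theorem WH_cent : WH (S : Subgroup G) Y L ≤ centralizer (VL (S : Subgroup G) Y L : Set G) :=
  cent_symm (h.V_le.trans fun _ hx => mem_centralizer_iff.2 fun y hy => (mem_zc.1 hx).2.1 y hy)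

/-- **`C_S(V) = W^`** -/
theorem cs_V : (S : Subgroup G) ⊓ centralizer (VL (S : Subgroup G) Y L : Set G) = WH (S : Subgroup G) Y L := by
  refine le_antisymm (le_WH ⟨inf_le_left, fun g hg => ?_⟩ (inf_le_inf_left _ (centralizer_le h.cl_le_V)))
    (le_inf (WH_le_S _ _ _) h.WH_cent)
  have h1 : WH (S : Subgroup G) Y L ≤ (S : Subgroup G) ⊓ centralizer (VL (S : Subgroup G) Y L : Set G) :=
    le_inf (WH_le_S _ _ _) h.WH_cent
  have h2 : g ∈ ML (S : Subgroup G) Y L := mem_ML_of_le ((cj_mono g h1).trans hg)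
  have h3 : cj g (VL (S : Subgroup G) Y L) = VL (S : Subgroup G) Y L :=
    cj_eq_of_mem_normalizer (ML_le_norm_V _ _ _ h2)
  have h4 : cj g ((S : Subgroup G) ⊓ centralizer (VL (S : Subgroup G) Y L : Set G)) ≤
      (S : Subgroup G) ⊓ centralizer (VL (S : Subgroup G) Y L : Set G) := by
    refine le_inf hg ?_
    rw [cj_inf, cj_centralizer, h3]
    exact inf_le_right
  exact Subgroup.eq_of_le_of_card_ge h4 (card_cj _ _).ge

omit h in
/-- A 2-group containing `W^` lies in `M`. -/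
theorem pgroup_le {T : Subgroup G} (hS : (S : Subgroup G) ≤ ML (S : Subgroup G) Y L) (hT : IsPGroup 2 T)
    (h1 : WH (S : Subgroup G) Y L ≤ T) : T ≤ ML (S : Subgroup G) Y L := by
  obtain ⟨S', hS'⟩ := hT.exists_le_sylow
  obtain ⟨l, hl⟩ := MulAction.exists_smul_eq G S S'
  have hl2 : (S' : Subgroup G) = cj l (S : Subgroup G) := by
    rw [← hl, Sylow.coe_subgroup_smul]; rfl
  rw [hl2] at hS'
  have h2 : cj l⁻¹ (WH (S : Subgroup G) Y L) ≤ (S : Subgroup G) := by
    have h3 := cj_mono l⁻¹ (h1.trans hS')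
    rwa [cj_inv_cj] at h3
  have h3 : l ∈ ML (S : Subgroup G) Y L := by
    have := inv_mem (mem_ML_of_le h2)
    rwa [inv_inv] at this
  refine hS'.trans ?_
  have h4 := cj_mono l hS
  rwa [cj_eq_of_mem_normalizer (Subgroup.le_normalizer h3)] at h4

/-- **Sylow control**: `O₂(X) ≤ M` for every `X ≥ W^`. -/
theorem o2_le {X : Subgroup G} (hX : WH (S : Subgroup G) Y L ≤ X) : o2 X ≤ ML (S : Subgroup G) Y L := by
  obtain ⟨T, hT, h1⟩ := exists_syl (S.isPGroup'.to_le (WH_le_S (S : Subgroup G) Y L)) hX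
  exact (o2_le_syl hT).trans (pgroup_le h.S_le hT.2.1 h1)

/-- `O₂(C_G(D)) ≤ M` for `D ≤ V`. -/
theorem o2_cent_le {D : Subgroup G} (hD : D ≤ VL (S : Subgroup G) Y L) :
    o2 (centralizer (D : Set G)) ≤ ML (S : Subgroup G) Y L :=
  h.o2_le (h.WH_cent.trans (centralizer_le hD))

/-- **PRINCIPLE** (#16346 (iii)). -/
theorem principle {F : Set (Subgroup G)} (hF : ∀ A ∈ F, ∀ n ∈ ML (S : Subgroup G) Y L, cj n A ∈ F)
    {A : Subgroup G} (hA : A ∈ F) (hAS : A ≤ (S : Subgroup G))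
    (hAV : ¬ A ≤ centralizer (VL (S : Subgroup G) Y L : Set G)) :
    ∃ B ∈ F, B ≤ (S : Subgroup G) ∧ ¬ B ≤ centralizer (cl Y L : Set G) := by
  by_contra hcon
  have hcon' : ∀ B ∈ F, B ≤ (S : Subgroup G) → B ≤ centralizer (cl Y L : Set G) := by
    intro B hB hBS
    by_contra h1
    exact hcon ⟨B, hB, hBS, h1⟩
  set K : Subgroup G := WH (S : Subgroup G) Y L ⊔ sSup {B | B ∈ F ∧ B ≤ (S : Subgroup G)} with hK
  have hKQ : K ≤ QL (S : Subgroup G) Y L :=
    sup_le (WH_le _ _ _) (sSup_le fun B hB => le_inf hB.2 (hcon' B hB.1 hB.2))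
  have hKW : K ≤ WH (S : Subgroup G) Y L := by
    refine le_WH ⟨hKQ.trans inf_le_left, fun g hg => ?_⟩ hKQ
    have h2 : g ∈ ML (S : Subgroup G) Y L := mem_ML_of_le ((cj_mono g le_sup_left).trans hg)
    have h4 : cj g K ≤ K := by
      change Subgroup.map _ _ ≤ _
      rw [hK, Subgroup.map_sup]
      refine sup_le_sup (cj_eq_of_mem_normalizer h2).le ?_
      change cj g (sSup {B | B ∈ F ∧ B ≤ (S : Subgroup G)}) ≤ _
      rw [cj_sSup]
      refine iSup_le fun B => ?_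
      have h5 : cj g (B : Subgroup G) ≤ (S : Subgroup G) :=
        (cj_mono g ((le_sSup B.2).trans le_sup_right)).trans hg
      exact le_sSup (a := cj g (B : Subgroup G)) ⟨hF _ B.2.1 g h2, h5⟩
    exact Subgroup.eq_of_le_of_card_ge h4 (card_cj _ _).ge
  have h6 : A ≤ K := (le_sSup (s := {B | B ∈ F ∧ B ≤ (S : Subgroup G)}) ⟨hA, hAS⟩).trans le_sup_right
  exact hAV (h6.trans (hKW.trans h.WH_cent))

/-- A 2-subgroup of `M` is `M`-conjugate to a subgroup of `S`. -/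
theorem exists_conj_le {A : Subgroup G} (hA : IsPGroup 2 A) (hAM : A ≤ ML (S : Subgroup G) Y L) :
    ∃ n ∈ ML (S : Subgroup G) Y L, cj n A ≤ (S : Subgroup G) :=
  FFThm.exists_conj_le S h.S_le hA hAM

/-- **`V` is not FF.** -/
theorem V_nff : NotFF (VL (S : Subgroup G) Y L) := by
  by_contra hn
  obtain ⟨A0, hA0⟩ := exists_opt hn
  obtain ⟨n, hn, hnS⟩ := FFThm.exists_conj_le S (h.S_le.trans (ML_le_norm_V _ _ _)) hA0.pg hA0.norm
  have hA1 := hA0.cj hn
  obtain ⟨A, hA, hAS, hne⟩ := h.principle (F := {A | Opt (VL (S : Subgroup G) Y L) A})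
    (fun A hA m hm => Opt.cj hA (ML_le_norm_V _ _ _ hm)) hA1 hnS hA1.ne
  obtain ⟨h1, -⟩ := Opt.exact hA h.V_comm h.cl_le_V hne le_rfl (P := A) fun hoff => by
    exfalso
    have h3 := h.nff A hA.pg (hAS.trans (h.le.trans (le_normalizer_cl _ _))) hoff.sq hoff.comm hne
    exact absurd (FFThm.relIndex_le_iff.1 hoff.le) (not_le.2 h3)
  have h3 := h.nff A hA.pg (hAS.trans (h.le.trans (le_normalizer_cl _ _))) h1.sq h1.comm hne
  exact absurd (FFThm.relIndex_le_iff.1 h1.le) (not_le.2 h3)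

/-- The frame of helper25's `NoEmp.lean`. -/
theorem lines (low : VL (S : Subgroup G) Y L ≤ o2 (centralizer (zc (S : Subgroup G) : Set G))) :
    NoEmp.Lines S (WH (S : Subgroup G) Y L) (VL (S : Subgroup G) Y L) where
  JS := WH_le_S _ _ _
  wc := (wc_WH _ _ _).eq
  NJ := ML_le_norm_V _ _ _
  JV := h.WH_cent
  comm := h.V_comm
  sq := h.V_sq
  ZV := h.zc_le_V
  nff := h.V_nff
  low := low

omit h in
/-- `W^ = C_S(⟨Y^L⟩)` if the latter is weakly closed. -/
theorem WH_eq (hw : WC (S : Subgroup G) (QL (S : Subgroup G) Y L)) :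
    WH (S : Subgroup G) Y L = QL (S : Subgroup G) Y L := le_antisymm (WH_le _ _ _) (le_WH hw le_rfl)

omit h in
/-- `V = Y` if `C_S(⟨Y^L⟩)` is weakly closed and its normaliser normalises `Y`. -/
theorem VL_eq (hw : WC (S : Subgroup G) (QL (S : Subgroup G) Y L))
    (hn : normalizer (QL (S : Subgroup G) Y L : Set G) ≤ normalizer (Y : Set G)) : VL (S : Subgroup G) Y L = Y := by
  rw [VL, ML, WH_eq hw]
  exact cl_eq hn

end Root

end Cfsg.Agent.Omega.NO3b.Seed

end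

-- merged: Cfsg.Agent.Mrg.Omega.NO3b.Seed.Alt
section

/-!
# The w.c. frame with a seed `Y`, part (v)

`Wc/Alt.lean` and `Exit/MaxV.lean` with `⟨Y^L⟩` in place of `V_L`: `Root S Y L`, `⟨Y^L⟩ ≤ O₂(C_G(Ω₁(Z(S))))`.

* `Root.good` : **(v)**: no `1 ≠ F ≤ V` is bad: `V ≤ O₂(C_G(F))`;
* `Root.low`, `Root.lines'` : `V ≤ O₂(C_G(Ω₁(Z(S))))` and helper25's `NoEmp.Lines S W^ V`;
* `VB Y B = ⟨Y^{N_G(B)}⟩`, `Adm S Y L B` : `B ≤ C_S(⟨Y^L⟩)` is admissible; `Adm.of_root`, `Adm.lines`, `exists_min`;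
* `hyp_of`, `WW_le`, `WW_not_cent`, `zc_le_of`, `off_of`, `exists_WW` : the `W_F` of `V`.
-/

set_option autoImplicit false
set_option linter.unusedSectionVars false

namespace Cfsg.Agent.Omega.NO3b.Seed

open Subgroup Cfsg
open Cfsg.Agent.ZN (o2 zc zl jj zj)
open Cfsg.Agent.ZN.ChoiceBase hiding mem_zc
open Cfsg.Agent.ZN.ChoiceSit (Syl exists_syl syl_conj o2_le_syl)
open Cfsg.Agent.Omega.NO3b.EZero (NotFF cent_symm cj_cent cj_norm cj_eq_cj_iff cl le_cl cj_le_cl cl_le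
  le_normalizer_cl)
open Cfsg.Agent.Omega.NO3b.Wc (WC StmtOff o2_inf_le)
open Cfsg.Agent.Omega.NO3b.Exit (MaxBad exists_maxBad WW_cj WW_pgroup wc_S_le)
open Cfsg.Agent.Omega.FFThm (ElemM OffM NoOverM)
open Cfsg.Agent.Omega.NOThreeL.Star (Opt Ok exists_opt)
open Cfsg.Agent.MinSimple.MinParabolic (IsMinPar)
open Cfsg.Agent.MinSimple.VModule (mem_zc le_centralizer_zc zc_sq le_normalizer_o2 o2_isPGroup le_o2 zc_comm
  normalizer_le_normalizer_zc o2_le oddGen)
open Cfsg.Agent.Omega.NOne (Flat.Hyp Flat.Bad Flat.EE Flat.WW Flat.o2_conj)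
open scoped Pointwise

universe u

variable {G : Type u} [Group G]

/-- `V_B = ⟨Y^{N_G(B)}⟩` -/
def VB (Y B : Subgroup G) : Subgroup G := cl Y (normalizer (B : Set G))

/-- `B` is admissible. -/
structure Adm [Finite G] (S : Sylow 2 G) (Y L B : Subgroup G) : Prop where
  ZY : zc (S : Subgroup G) ≤ Y
  wc : WC (S : Subgroup G) B
  le : B ≤ QL (S : Subgroup G) Y L
  cs : (S : Subgroup G) ⊓ centralizer (VB Y B : Set G) = B
  comm : VB Y B ≤ centralizer (VB Y B : Set G)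
  sq : ∀ v ∈ VB Y B, v ^ 2 = 1
  nff : NotFF (VB Y B)
  low : VB Y B ≤ o2 (centralizer (zc (S : Subgroup G) : Set G))

/-- The w.c. frame is admissible. -/
theorem Adm.of_root [Finite G] {S : Sylow 2 G} {Y L : Subgroup G} (h : Root S Y L)
    (low : VL (S : Subgroup G) Y L ≤ o2 (centralizer (zc (S : Subgroup G) : Set G))) :
    Adm S Y L (WH (S : Subgroup G) Y L) where
  ZY := h.ZY
  wc := wc_WH _ _ _
  le := WH_le _ _ _
  cs := h.cs_V
  comm := h.V_comm
  sq := h.V_sq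
  nff := h.V_nff
  low := low

namespace Adm

variable [Finite G] {S : Sylow 2 G} {Y L B : Subgroup G} (h : Adm S Y L B)
include h

theorem lines : NoEmp.Lines S B (VB Y B) where
  JS := h.wc.le
  wc := h.wc.eq
  NJ := le_normalizer_cl _ _
  JV := by
    have h1 := h.cs
    intro b hb
    rw [← h1] at hb
    exact hb.2
  comm := h.comm
  sq := h.sq
  ZV := h.ZY.trans (le_cl _ _)
  nff := h.nff
  low := h.low

end Adm

/-- a minimal admissible `B` -/
theorem exists_min [Finite G] {S : Sylow 2 G} {Y L B₀ : Subgroup G} (h : Adm S Y L B₀) :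
    ∃ B, Adm S Y L B ∧ B ≤ B₀ ∧ ∀ B', Adm S Y L B' → B' ≤ B → B' = B := by
  obtain ⟨B, hB, hmin⟩ := Set.exists_min_image {B : Subgroup G | Adm S Y L B ∧ B ≤ B₀} (fun B => Nat.card B)
    (Set.toFinite _) ⟨B₀, h, le_rfl⟩
  exact ⟨B, hB.1, hB.2, fun B' h1 h2 => eq_of_le_of_card_ge h2 (hmin B' ⟨h1, h2.trans hB.2⟩)⟩

/-! ### the w.c. frame and THEOREM FLAT -/

section root

variable [Finite G] {S : Sylow 2 G} {Y L F : Subgroup G}

/-- No offender on `⟨Y^L⟩` in module form. -/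
theorem Root.not_offM (h : Root S Y L) {A : Subgroup G} (hA : A ≤ (S : Subgroup G)) : ¬ OffM (cl Y L) A := by
  intro hoff
  have h3 := h.nff A (S.isPGroup'.to_le hA) (hA.trans (h.le.trans (le_normalizer_cl _ _))) hoff.sq hoff.comm
    hoff.ne
  exact absurd (FFThm.relIndex_le_iff.1 hoff.le) (not_le.2 h3)

theorem Root.V_two (h : Root S Y L) : IsPGroup 2 (VL (S : Subgroup G) Y L : Subgroup G) :=
  NO3b.NoEmp.pgroup_of_sq h.V_sq

/-- the hypotheses of THEOREM FLAT for a maximal bad `F ≤ V` -/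
theorem hyp_of (hG : IsCharacteristicTwoType G) (h : Root S Y L) (hF : MaxBad (VL (S : Subgroup G) Y L) F) :
    Flat.Hyp (VL (S : Subgroup G) Y L) F where
  comm := h.V_comm
  sq := h.V_sq
  syl := fun D _ hD => (h.o2_cent_le hD).trans (ML_le_norm_V _ _ _)
  noff := by
    intro A hA hc hs hne
    have h1 := h.V_nff A (NoEmp.pgroup_of_sq hs) hA (fun a ha => by rw [hs a ha]; exact one_mem _)
      (fun a ha b hb => by
        have e : a * b = b * a := (mem_centralizer_iff.1 (hc ha) b hb).symm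
        rw [e, mul_inv_cancel_right, mul_inv_cancel]; exact one_mem _) hne
    by_contra h2
    exact absurd (FFThm.relIndex_le_iff.1 (not_lt.1 h2)) (not_le.2 h1)
  char2 := NOne.LemmaT.char2_centralizer hG ((NoEmp.pgroup_of_sq h.V_sq).to_le hF.1.le) hF.1.ne
  bad := hF.1
  max := hF.2

/-- `W_F` is a 2-group in `M`. -/
theorem WW_le (h : Root S Y L) (hF : F ≤ VL (S : Subgroup G) Y L) :
    Flat.WW (VL (S : Subgroup G) Y L) F ≤ ML (S : Subgroup G) Y L :=
  Flat.Hyp.W_le_R.trans (h.o2_cent_le hF)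

/-- A group with a maximal bad `F`: `[V, W_F] ≠ 1`. -/
theorem WW_not_cent (hG : IsCharacteristicTwoType G) (h : Root S Y L) (hF : MaxBad (VL (S : Subgroup G) Y L) F) :
    ¬ Flat.WW (VL (S : Subgroup G) Y L) F ≤ centralizer (VL (S : Subgroup G) Y L : Set G) := by
  intro h0
  have h1 := (hyp_of hG h hF).cent_VW
  rw [inf_eq_left.2 (cent_symm h0)] at h1
  apply hF.1.not_le
  have h2 : VL (S : Subgroup G) Y L ≤ centralizer (F : Set G) := h.V_comm.trans (centralizer_le hF.1.le)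
  refine le_o2 h2 (NoEmp.pgroup_of_sq h.V_sq) ?_
  rw [← h1]
  exact centralizer_le_normalizer _

/-- `W_F ≤ S` implies `Z ≤ F`. -/
theorem zc_le_of (hG : IsCharacteristicTwoType G) (h : Root S Y L) (hF : MaxBad (VL (S : Subgroup G) Y L) F)
    (hS : Flat.WW (VL (S : Subgroup G) Y L) F ≤ (S : Subgroup G)) : zc (S : Subgroup G) ≤ F := by
  rw [← (hyp_of hG h hF).cent_VW]
  exact le_inf h.zc_le_V (cent_symm (hS.trans (le_centralizer_zc _)))

/-- **THEOREM OFF, Corollary A**: `W_F ≤ S` offends on every `S`-local `Y₁ ≤ V ∩ O₂(C_G(Z))` which it does not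
centralise. -/
theorem off_of (hG : IsCharacteristicTwoType G) (hOff : StmtOff G) (h : Root S Y L)
    (hF : MaxBad (VL (S : Subgroup G) Y L) F)
    (hS : Flat.WW (VL (S : Subgroup G) Y L) F ≤ (S : Subgroup G)) {Y₁ : Subgroup G}
    (hYV : Y₁ ≤ VL (S : Subgroup G) Y L) (hYZ : Y₁ ≤ o2 (centralizer (zc (S : Subgroup G) : Set G)))
    (hne : ¬ Flat.WW (VL (S : Subgroup G) Y L) F ≤ centralizer (Y₁ : Set G)) :
    OffM Y₁ (Flat.WW (VL (S : Subgroup G) Y L) F) := by
  have hy := hyp_of hG h hF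
  have hZF := zc_le_of hG h hF hS
  have hCF : centralizer (F : Set G) ≤ centralizer (zc (S : Subgroup G) : Set G) := centralizer_le hZF
  have h1 : Y₁ ≤ o2 (centralizer (F : Set G)) := by
    have h2 : o2 (centralizer (zc (S : Subgroup G) : Set G)) ⊓ centralizer (F : Set G) ≤
        o2 (centralizer (F : Set G)) := by
      refine le_o2 inf_le_right ((o2_isPGroup _).to_le inf_le_left) ?_
      intro x hx
      rw [mem_normalizer_iff_cj, cj_inf, cj_eq_of_mem_normalizer (Subgroup.le_normalizer hx),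
        cj_eq_of_mem_normalizer (le_normalizer_o2 _ (hCF hx))]
    exact (le_inf hYZ (hYV.trans (h.V_comm.trans (centralizer_le hF.1.le)))).trans h2
  have h3 := hy.off_of_le (hOff _ _ hy) (Y := Y₁) (le_inf hYV h1)
  obtain ⟨e1, e2⟩ := hy.elem_W hYV
  refine ⟨⟨fun a ha => by rw [pow_two]; exact e2 a ha, fun a ha b hb => e1 a ha b hb⟩, hne, ?_⟩
  exact FFThm.relIndex_le_iff.2 h3

/-- **PRINCIPLE for the `W_F`**: if `V ≰ O₂(C_G(Z))` then some `W_F ≤ S`, `F` maximal bad, moves `⟨Y^L⟩`. -/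
theorem exists_WW (hG : IsCharacteristicTwoType G) (hS : (S : Subgroup G) ≠ ⊥) (h : Root S Y L)
    (hV : ¬ VL (S : Subgroup G) Y L ≤ o2 (centralizer (zc (S : Subgroup G) : Set G))) :
    ∃ F, MaxBad (VL (S : Subgroup G) Y L) F ∧ Flat.WW (VL (S : Subgroup G) Y L) F ≤ (S : Subgroup G) ∧
      ¬ Flat.WW (VL (S : Subgroup G) Y L) F ≤ centralizer (cl Y L : Set G) := by
  have hb : Flat.Bad (VL (S : Subgroup G) Y L) (zc (S : Subgroup G)) :=
    ⟨MinSimple.Basic.zc_ne_bot S.isPGroup' hS, h.zc_le_V, hV⟩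
  obtain ⟨F0, hF0, -⟩ := exists_maxBad hb
  obtain ⟨n, hn, hnS⟩ := h.exists_conj_le (WW_pgroup _ F0) (WW_le h hF0.1.le)
  have hnV := ML_le_norm_V _ _ _ hn
  obtain ⟨A, ⟨F, hF, rfl⟩, hAS, hAne⟩ := h.principle
    (F := {A | ∃ F, MaxBad (VL (S : Subgroup G) Y L) F ∧ Flat.WW (VL (S : Subgroup G) Y L) F = A})
    (A := cj n (Flat.WW (VL (S : Subgroup G) Y L) F0)) (by
      rintro A ⟨F, hF, rfl⟩ m hm
      exact ⟨cj m F, hF.cj (ML_le_norm_V _ _ _ hm), WW_cj (ML_le_norm_V _ _ _ hm)⟩)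
    ⟨cj n F0, hF0.cj hnV, WW_cj hnV⟩ hnS (by
      rw [← WW_cj hnV]
      exact WW_not_cent hG h (hF0.cj hnV))
  exact ⟨F, hF, hAS, hAne⟩

end root

namespace Root

variable [Finite G] {S : Sylow 2 G} {Y L : Subgroup G} (h : Root S Y L)
include h

/-- **(v)**, BETA: there is no bad subgroup. -/
theorem not_bad (hc : IsCharacteristicTwoType G) (hoff : StmtOff G)
    (hz : cl Y L ≤ o2 (centralizer (zc (S : Subgroup G) : Set G))) (F₀ : Subgroup G) :
    ¬ Flat.Bad (VL (S : Subgroup G) Y L) F₀ := by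
  intro hF₀
  obtain ⟨F, hF, -⟩ := exists_maxBad hF₀
  obtain ⟨n, hn, hnS⟩ := h.exists_conj_le (WW_pgroup _ F) (WW_le h hF.1.le)
  have hnV := ML_le_norm_V _ _ _ hn
  obtain ⟨A, ⟨F', hF', rfl⟩, hXS, hXL⟩ := h.principle
    (F := {A | ∃ F, MaxBad (VL (S : Subgroup G) Y L) F ∧ Flat.WW (VL (S : Subgroup G) Y L) F = A})
    (A := cj n (Flat.WW (VL (S : Subgroup G) Y L) F)) (by
      rintro A ⟨F, hF, rfl⟩ m hm
      exact ⟨cj m F, hF.cj (ML_le_norm_V _ _ _ hm), WW_cj (ML_le_norm_V _ _ _ hm)⟩)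
    ⟨cj n F, hF.cj hnV, WW_cj hnV⟩ hnS (by
      rw [← WW_cj hnV]
      exact WW_not_cent hc h (hF.cj hnV))
  exact h.not_offM hXS (off_of hc hoff h hF' hXS h.cl_le_V hz hXL)

/-- **(v)** -/
theorem good (hc : IsCharacteristicTwoType G) (hoff : StmtOff G)
    (hz : cl Y L ≤ o2 (centralizer (zc (S : Subgroup G) : Set G))) {F : Subgroup G}
    (hF : F ≤ VL (S : Subgroup G) Y L) (hF1 : F ≠ ⊥) :
    VL (S : Subgroup G) Y L ≤ o2 (centralizer (F : Set G)) := by
  by_contra hcon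
  exact h.not_bad hc hoff hz F ⟨hF1, hF, hcon⟩

/-- `V ≤ O₂(C_G(Z))` -/
theorem low (hc : IsCharacteristicTwoType G) (hoff : StmtOff G)
    (hz : cl Y L ≤ o2 (centralizer (zc (S : Subgroup G) : Set G)))
    (hne : zc (S : Subgroup G) ≠ ⊥) :
    VL (S : Subgroup G) Y L ≤ o2 (centralizer (zc (S : Subgroup G) : Set G)) :=
  h.good hc hoff hz h.zc_le_V hne

/-- The frame of helper25's `NoEmp.lean`. -/
theorem lines' (hc : IsCharacteristicTwoType G) (hoff : StmtOff G)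
    (hz : cl Y L ≤ o2 (centralizer (zc (S : Subgroup G) : Set G)))
    (hne : zc (S : Subgroup G) ≠ ⊥) :
    NoEmp.Lines S (WH (S : Subgroup G) Y L) (VL (S : Subgroup G) Y L) :=
  h.lines (h.low hc hoff hz hne)

end Root

end Cfsg.Agent.Omega.NO3b.Seed

end

-- merged: Cfsg.Agent.Mrg.Omega.NO3b.Seed.Chain
section

section


/-!
# NotFF (c), local exit: the chain frame with a seed `Y` (#20856 (1); helper235's `Chain/Frame.lean`)

`S` a Sylow 2-subgroup, `W(L) = WH S Y L`, `M(L) = ML S Y L`, `V(L) = VL S Y L = ⟨Y^{M(L)}⟩` (`Seed/Frame.lean`).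

* `Seed S Y P` : `Ω₁(Z(S)) ≤ Y` and `Y ≤ Ω₁(Z(O₂(H)))` for every local `H ≥ P`; `seed_of` : `Y = Ω₁(Z(O₂(P)))`;
* `Stage S Y L` : `Root S Y L` and `⟨Y^L⟩ ≤ O₂(C_G(Z))`, `Z = Ω₁(Z(S))`; `Stage.lines`;
* `Step S Y L F T X` : a panel `(F, T, X)` of `V(L)`, `Z ≤ F`, such that `L' = ⟨M(L), X⟩` is local, `⟨Y^{L'}⟩` is not
  FF and lies in `O₂(C_G(Z))`; `nx S Y L X` is `L'`; `Step.next` : `Stage S Y L'`; `Step.lt` : `V(L) < V(L')`;
* `Reach S Y P L` : `L` is reached from `P`; `Reach.stage`, `Reach.le`, `Reach.ML_le`;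
* `exists_last` : some `L` reached from `P` has no step; `last_or`.
-/

set_option autoImplicit false
set_option linter.unusedSectionVars false
set_option linter.dupNamespace false

namespace Cfsg.Agent.Omega.NO3b.Seed

open Subgroup Cfsg
open Cfsg.Agent.ZN (o2 zc zl jj zj)
open Cfsg.Agent.ZN.ChoiceBase hiding mem_zc
open Cfsg.Agent.ZN.ChoiceSit (Syl o2_le_syl syl_not_dvd)
open Cfsg.Agent.MinSimple.EmptyTI (syl_of_le)
open Cfsg.Agent.Omega.MinPar Cfsg.Agent.Omega.Frame Cfsg.Agent.Omega.FrameNOFF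
open Cfsg.Agent.Omega.NO3b.EZero (NotFF Par oddGen_sup_syl cl le_cl cj_le_cl cl_le le_normalizer_cl)
open Cfsg.Agent.Omega.NO3b.Alpha (Fl)
open Cfsg.Agent.Omega.NO3b.NoEmp (Lines)
open Cfsg.Agent.Omega.NO3b.Wc (WC StmtOff)
open Cfsg.Agent.Omega.NO3b.Chain (le_normalizer_inf le_normalizer_centralizer)
open Cfsg.Agent.MinSimple.VModule (oddGen zc_comm zc_sq le_normalizer_o2 normalizer_le_normalizer_zc)

universe u

section

variable {G : Type u} [Group G]

/-- `L' = ⟨M(L), X⟩` -/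
def nx (S Y L X : Subgroup G) : Subgroup G := ML S Y L ⊔ X

variable [Finite G]

/-- The seed: `Z ≤ Y` and `Y ≤ Ω₁(Z(O₂(H)))` for all local `H ≥ P`. -/
structure Seed (S : Sylow 2 G) (Y P : Subgroup G) : Prop where
  ZY : zc (S : Subgroup G) ≤ Y
  le : ∀ H : Subgroup G, IsLoc (S : Subgroup G) H → P ≤ H → Y ≤ zc (o2 H)

variable {S : Sylow 2 G} {Y P L F T X : Subgroup G}

theorem Seed.mono (h : Seed S Y P) (hPL : P ≤ L) : Seed S Y L := ⟨h.ZY, fun H hH hL => h.le H hH (hPL.trans hL)⟩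

/-- `⟨Y^H⟩ ≤ Ω₁(Z(O₂(H)))` -/
theorem Seed.cl_le (h : Seed S Y P) {H : Subgroup G} (hH : IsLoc (S : Subgroup G) H) (hP : P ≤ H) :
    cl Y H ≤ zc (o2 H) :=
  cl_le' (h.le H hH hP) ((le_normalizer_o2 H).trans (normalizer_le_normalizer_zc _))

/-- **The seed `Ω₁(Z(O₂(P)))`.** -/
theorem seed_of (hc : IsCharacteristicTwoType G) (hP : IsLoc (S : Subgroup G) P) : Seed S (zc (o2 P)) P where
  ZY := (MinSimple.VModule.zc_le_zl _ _).trans (hP.zl_le S hc)
  le := fun H hH hPH => by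
    have h1 : o2 H ≤ o2 P := o2_le_o2 S hP.le hPH
    have h2 : zc (o2 P) ≤ centralizer (o2 H : Set G) := fun x hx => mem_centralizer_iff.2 fun y hy =>
      (MinSimple.VModule.mem_zc.1 hx).2.1 y (h1 hy)
    have h3 : zc (o2 P) ≤ o2 H :=
      (le_inf (((ZN.zc_le _).trans (hP.o2_le S)).trans hH.le) h2).trans (hH.char2 S hc)
    exact fun x hx => MinSimple.VModule.mem_zc.2 ⟨h3 hx, fun y hy => (MinSimple.VModule.mem_zc.1 hx).2.1 y (h1 hy),
      (MinSimple.VModule.mem_zc.1 hx).2.2⟩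

/-- A member of the chain. -/
structure Stage (S : Sylow 2 G) (Y L : Subgroup G) : Prop extends Root S Y L where
  low : cl Y L ≤ o2 (centralizer (zc (S : Subgroup G) : Set G))

/-- A panel of `V(L)` which gives a step of the chain. -/
structure Step (S : Sylow 2 G) (Y L F T X : Subgroup G) : Prop where
  fl : Fl S (VL (S : Subgroup G) Y L) F T
  zF : zc (S : Subgroup G) ≤ F
  par : Par (VL (S : Subgroup G) Y L) F T X
  loc : ∃ R : Subgroup G, R ≠ ⊥ ∧ IsPGroup 2 R ∧ ML (S : Subgroup G) Y L ≤ normalizer (R : Set G) ∧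
    X ≤ normalizer (R : Set G)
  nff : NotFF (cl Y (nx (S : Subgroup G) Y L X))
  low : cl Y (nx (S : Subgroup G) Y L X) ≤ o2 (centralizer (zc (S : Subgroup G) : Set G))
  Yz : Y ≤ zc (o2 (nx (S : Subgroup G) Y L X))

/-- `L` is reached from `P`. -/
inductive Reach (S : Sylow 2 G) (Y P : Subgroup G) : Subgroup G → Prop
  | base : Reach S Y P P
  | step {L F T X : Subgroup G} : Reach S Y P L → Step S Y L F T X → Reach S Y P (nx (S : Subgroup G) Y L X)

/-- The frame of `NoEmp.lean` at a member of the chain. -/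
theorem Stage.lines (h : Stage S Y L) (hc : IsCharacteristicTwoType G) (hne : zc (S : Subgroup G) ≠ ⊥) :
    Lines S (WH (S : Subgroup G) Y L) (VL (S : Subgroup G) Y L) :=
  h.toRoot.lines' hc (Final.stmtOff G) h.low hne

/-- `V(L) ≤ O₂(C_G(D))` for `1 ≠ D ≤ V(L)`. -/
theorem Stage.good (h : Stage S Y L) (hc : IsCharacteristicTwoType G) {D : Subgroup G}
    (hD : D ≤ VL (S : Subgroup G) Y L) (hD1 : D ≠ ⊥) :
    VL (S : Subgroup G) Y L ≤ o2 (centralizer (D : Set G)) :=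
  h.toRoot.good hc (Final.stmtOff G) h.low hD hD1

/-- (K0) Every panel of `V(L)`, `Z ≤ F`, is local. -/
theorem Stage.loc (h : Stage S Y L) (hc : IsCharacteristicTwoType G) (hne : zc (S : Subgroup G) ≠ ⊥)
    (f : Fl S (VL (S : Subgroup G) Y L) F T) (hZ : zc (S : Subgroup G) ≤ F)
    (p : Par (VL (S : Subgroup G) Y L) F T X) :
    ∃ R : Subgroup G, R ≠ ⊥ ∧ IsPGroup 2 R ∧ ML (S : Subgroup G) Y L ≤ normalizer (R : Set G) ∧
      X ≤ normalizer (R : Set G) := by
  have h1 := AlphaEnd.exists_loc f (h.lines hc hne) FFBr.aStmt FFBr.ffthm hc hZ p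
  rwa [h.toRoot.cs_V] at h1

/-- The panels of `V(L)` exist. -/
theorem Stage.exists_panel (h : Stage S Y L) (hc : IsCharacteristicTwoType G) (hne : zc (S : Subgroup G) ≠ ⊥)
    (hnz : ¬ centralizer (zc (S : Subgroup G) : Set G) ≤ normalizer (VL (S : Subgroup G) Y L : Set G)) :
    ∃ F T X, Fl S (VL (S : Subgroup G) Y L) F T ∧ zc (S : Subgroup G) ≤ F ∧
      Par (VL (S : Subgroup G) Y L) F T X := by
  obtain ⟨F, T, f, hZ⟩ := Alpha.exists_fl_zc (h.lines hc hne) hnz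
  obtain ⟨X, p⟩ := f.exists_par
  exact ⟨F, T, X, f, hZ, p⟩

/-- `C_G(Z)` does not normalise `V(L)`. -/
theorem Root.nle (h : Root S Y L) (hPL : P ≤ L) (hn : NonLoc P (CZ (S : Subgroup G)))
    (hne : zc (S : Subgroup G) ≠ ⊥) :
    ¬ centralizer (zc (S : Subgroup G) : Set G) ≤ normalizer (VL (S : Subgroup G) Y L : Set G) := by
  intro h0
  have h1 := hn (VL (S : Subgroup G) Y L) h.V_two ((hPL.trans h.L_le).trans (ML_le_norm_V _ _ _)) h0
  exact hne (le_bot_iff.1 (h.zc_le_V.trans h1.le))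

namespace Step

variable (s : Step S Y L F T X)
include s

theorem isLoc (h : Root S Y L) : IsLoc (S : Subgroup G) (nx (S : Subgroup G) Y L X) := by
  obtain ⟨R, hR, hR2, h1, h2⟩ := s.loc
  exact isLoc_of_le_normalizer S (h.S_le.trans le_sup_left) hR2 hR (sup_le h1 h2)

/-- (MIN) -/
theorem min_or (l : Lines S (WH (S : Subgroup G) Y L) (VL (S : Subgroup G) Y L)) {K : Subgroup G} (hK : K ≤ X)
    (hKn : X ≤ normalizer (K : Set G)) : oddGen X ≤ K ∨ T ⊓ K ≤ o2 X :=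
  K0.min_or (s.fl.sylX s.par) (s.fl.isMinPar l s.par) hK hKn

/-- `O²(X)` does not normalise `V(L)`. -/
theorem oddGen_nle (h : Root S Y L) : ¬ oddGen X ≤ normalizer (VL (S : Subgroup G) Y L : Set G) := by
  intro h0
  apply s.par.nle
  rw [← oddGen_sup_syl (s.fl.sylX s.par)]
  exact sup_le h0 (s.fl.T_le.trans (h.S_le.trans (ML_le_norm_V _ _ _)))

omit s [Finite G] in
theorem ML_le : ML (S : Subgroup G) Y L ≤ nx (S : Subgroup G) Y L X := le_sup_left

omit s [Finite G] in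
theorem X_le : X ≤ nx (S : Subgroup G) Y L X := le_sup_right

omit s [Finite G] in
/-- `V(L) ≤ ⟨Y^{L'}⟩` -/
theorem V_le : VL (S : Subgroup G) Y L ≤ cl Y (nx (S : Subgroup G) Y L X) := cl_mono _ ML_le

/-- `W(L) ≤ T` -/
theorem WH_le (h : Root S Y L) : WH (S : Subgroup G) Y L ≤ T := by
  rw [← h.cs_V]
  exact s.fl.Q0_le

omit s in
/-- `C_S(⟨Y^{L'}⟩)` in terms of `W(L)`. -/
theorem cs_eq (h : Root S Y L) :
    (S : Subgroup G) ⊓ centralizer (cl Y (nx (S : Subgroup G) Y L X) : Set G) =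
      WH (S : Subgroup G) Y L ⊓ centralizer (cl Y (nx (S : Subgroup G) Y L X) : Set G) :=
  le_antisymm (le_inf ((inf_le_inf_left _ (centralizer_le (V_le (X := X)))).trans h.cs_V.le) inf_le_right)
    (inf_le_inf_right _ (WH_le_S _ _ _))

/-- `C_S(⟨Y^{L'}⟩)` in terms of `O₂(X)`. -/
theorem cs_eq' (h : Root S Y L) (l : Lines S (WH (S : Subgroup G) Y L) (VL (S : Subgroup G) Y L)) :
    (S : Subgroup G) ⊓ centralizer (cl Y (nx (S : Subgroup G) Y L X) : Set G) =
      o2 X ⊓ centralizer (cl Y (nx (S : Subgroup G) Y L X) : Set G) := by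
  have hX : X ≤ normalizer (cl Y (nx (S : Subgroup G) Y L X) : Set G) :=
    X_le.trans (le_normalizer_cl _ _)
  apply le_antisymm
  · refine le_inf ?_ inf_le_right
    rcases s.min_or l (K := X ⊓ centralizer (cl Y (nx (S : Subgroup G) Y L X) : Set G)) inf_le_left
      (le_normalizer_inf Subgroup.le_normalizer (le_normalizer_centralizer hX)) with h1 | h1
    · exfalso
      apply s.oddGen_nle h
      exact ((h1.trans inf_le_right).trans (centralizer_le V_le)).trans (centralizer_le_normalizer _)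
    · rw [cs_eq h]
      exact (le_inf (inf_le_left.trans (s.WH_le h)) (le_inf ((inf_le_left.trans (s.WH_le h)).trans s.par.T_le)
        inf_le_right)).trans h1
  · exact inf_le_inf_right _ ((o2_le_syl (s.fl.sylX s.par)).trans s.fl.T_le)

/-- **The next member.** -/
theorem next (h : Root S Y L)
    (l : Lines S (WH (S : Subgroup G) Y L) (VL (S : Subgroup G) Y L)) : Stage S Y (nx (S : Subgroup G) Y L X) := by
  have hz : cl Y (nx (S : Subgroup G) Y L X) ≤ zc (o2 (nx (S : Subgroup G) Y L X)) :=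
    cl_le' s.Yz ((le_normalizer_o2 _).trans (normalizer_le_normalizer_zc _))
  refine { le := h.S_le.trans le_sup_left, ZY := h.ZY, comm := ?_, sq := fun v hv => zc_sq _ v (hz hv),
           nff := s.nff, cs := sup_le ?_ ?_, low := s.low }
  · intro x hx
    rw [mem_centralizer_iff]
    intro y hy
    exact zc_comm _ _ (hz hy) _ (hz hx)
  · rw [cs_eq h]
    exact le_normalizer_inf le_rfl (le_normalizer_centralizer (ML_le.trans (le_normalizer_cl _ _)))
  · rw [s.cs_eq' h l]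
    exact le_normalizer_inf (le_normalizer_o2 X) (le_normalizer_centralizer (X_le.trans (le_normalizer_cl _ _)))

omit s in
/-- `M(L) ≤ M(L')` -/
theorem ML_le_ML (h' : Root S Y (nx (S : Subgroup G) Y L X)) :
    ML (S : Subgroup G) Y L ≤ ML (S : Subgroup G) Y (nx (S : Subgroup G) Y L X) := ML_le.trans h'.L_le

/-- `V(L) < V(L')` -/
theorem lt (h' : Root S Y (nx (S : Subgroup G) Y L X)) :
    VL (S : Subgroup G) Y L < VL (S : Subgroup G) Y (nx (S : Subgroup G) Y L X) := by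
  refine lt_of_le_of_ne (V_le.trans h'.cl_le_V) fun h1 => s.par.nle ?_
  rw [h1]
  exact (X_le.trans h'.L_le).trans (ML_le_norm_V _ _ _)

/-- `W(L') < W(L)` -/
theorem WH_lt (h : Root S Y L) (h' : Root S Y (nx (S : Subgroup G) Y L X)) :
    WH (S : Subgroup G) Y (nx (S : Subgroup G) Y L X) < WH (S : Subgroup G) Y L := by
  have h1 : WH (S : Subgroup G) Y (nx (S : Subgroup G) Y L X) ≤ WH (S : Subgroup G) Y L := by
    rw [← h.cs_V, ← h'.cs_V]
    exact inf_le_inf_left _ (centralizer_le (s.lt h').le)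
  refine lt_of_le_of_ne h1 fun he => (s.lt h').ne ?_
  rw [VL, VL, ML, ML, he]

end Step

theorem Reach.stage (hc : IsCharacteristicTwoType G) (hne : zc (S : Subgroup G) ≠ ⊥) (hP : Stage S Y P)
    (r : Reach S Y P L) : Stage S Y L := by
  induction r with
  | base => exact hP
  | step _ s ih => exact s.next ih.toRoot (ih.lines hc hne)

theorem Reach.trans {L' : Subgroup G} (r : Reach S Y P L) (r' : Reach S Y L L') : Reach S Y P L' := by
  induction r' with
  | base => exact r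
  | step _ s ih => exact ih.step s

/-- `P ≤ L` -/
theorem Reach.le (hc : IsCharacteristicTwoType G) (hne : zc (S : Subgroup G) ≠ ⊥) (hP : Stage S Y P)
    (r : Reach S Y P L) : P ≤ L := by
  induction r with
  | base => exact le_rfl
  | step r s ih => exact ih.trans ((r.stage hc hne hP).L_le.trans Step.ML_le)

theorem Reach.seed (hc : IsCharacteristicTwoType G) (hne : zc (S : Subgroup G) ≠ ⊥) (hP : Stage S Y P)
    (r : Reach S Y P L) (hsd : Seed S Y P) : Seed S Y L := hsd.mono (r.le hc hne hP)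

/-- `M(P) ≤ M(L)` -/
theorem Reach.ML_le (hc : IsCharacteristicTwoType G) (hne : zc (S : Subgroup G) ≠ ⊥) (hP : Stage S Y P)
    (r : Reach S Y P L) : ML (S : Subgroup G) Y P ≤ ML (S : Subgroup G) Y L := by
  induction r with
  | base => exact le_rfl
  | step r s ih => exact ih.trans (Step.ML_le_ML ((r.step s).stage hc hne hP).toRoot)

/-- `V(P) ≤ V(L)` -/
theorem Reach.V_le (hc : IsCharacteristicTwoType G) (hne : zc (S : Subgroup G) ≠ ⊥) (hP : Stage S Y P)
    (r : Reach S Y P L) : VL (S : Subgroup G) Y P ≤ VL (S : Subgroup G) Y L := by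
  induction r with
  | base => exact le_rfl
  | step r s ih => exact ih.trans (s.lt ((r.step s).stage hc hne hP).toRoot).le

/-- **The last member of the chain.** -/
theorem exists_last (hc : IsCharacteristicTwoType G) (hne : zc (S : Subgroup G) ≠ ⊥) (hP : Stage S Y P)
    : ∃ L, Reach S Y P L ∧ ∀ F T X, ¬ Step S Y L F T X := by
  obtain ⟨L, hL, hmax⟩ := Set.exists_max_image {L : Subgroup G | Reach S Y P L}
    (fun L => Nat.card (VL (S : Subgroup G) Y L)) (Set.toFinite _) ⟨P, Reach.base⟩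
  refine ⟨L, hL, fun F T X s => ?_⟩
  have h1 := s.lt ((Reach.step hL s).stage hc hne hP).toRoot
  have h2 := hmax _ (Reach.step hL s)
  exact h1.ne (Subgroup.eq_of_le_of_card_ge h1.le h2)

/-- At the last member every panel is local and has `⟨Y^{L'}⟩` FF or not in `O₂(C_G(Z))`. -/
theorem last_or (hc : IsCharacteristicTwoType G) (hne : zc (S : Subgroup G) ≠ ⊥) (hsd : Seed S Y L) (h : Stage S Y L)
    (hl : ∀ F T X, ¬ Step S Y L F T X) (f : Fl S (VL (S : Subgroup G) Y L) F T) (hZ : zc (S : Subgroup G) ≤ F)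
    (p : Par (VL (S : Subgroup G) Y L) F T X) : ¬ NotFF (cl Y (nx (S : Subgroup G) Y L X)) ∨
      ¬ cl Y (nx (S : Subgroup G) Y L X) ≤ o2 (centralizer (zc (S : Subgroup G) : Set G)) := by
  by_contra hcon
  push Not at hcon
  obtain ⟨R, hR, hR2, h1, h2⟩ := h.loc hc hne f hZ p
  have h3 : IsLoc (S : Subgroup G) (nx (S : Subgroup G) Y L X) :=
    isLoc_of_le_normalizer S (h.S_le.trans le_sup_left) hR2 hR (sup_le h1 h2)
  exact hl F T X ⟨f, hZ, p, ⟨R, hR, hR2, h1, h2⟩, hcon.1, hcon.2, hsd.le _ h3 (h.L_le.trans Step.ML_le)⟩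

end

end Cfsg.Agent.Omega.NO3b.Seed

end

section


/-!
# The local exit with a seed `Y` (#20856 (1); helper25's `Exit/LocalExit.lean`)

`B` admissible (`Adm S Y L B`), `M = N_G(B)`, `V = VB Y B = ⟨Y^M⟩`, `X` a minimal parabolic over `T`, `B ≤ T ≤ S`,
`X ≤ C_G(Z)`, `X ≰ N_G(V)`, `H = ⟨M, X⟩`, `Y ≤ Ω₁(Z(O₂(H)))` (`Fr`), `V_H = ⟨Y^H⟩`, `U = ⟨V^X⟩`.

* `Fr.gamma` : `V_H` is FF: a best offender `A ≤ B` of `V_H`, `A ≰ O₂(X)`, offends on `U`;
* `Fr.beta` : `V_H` is not FF, `V' ≰ O₂(C_G(Z))` (`V' = VL S Y (LH S Y H) ≥ V_H` the w.c. closure): some `W_F ≤ B`,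
  `W_F ≰ O₂(X)`, offends on `U`;
* `Fr.closed` : `V_H` is not FF, `V' ≤ O₂(C_G(Z))`: a smaller admissible `B'`;
* `Fr.Y_low`, `Fr.Y_le`, `Fr.max_le`, ... : `⟨V^⟨S,X⟩⟩` (`Exit/TwoFac.lean`).
-/

set_option autoImplicit false
set_option linter.unusedSectionVars false

namespace Cfsg.Agent.Omega.NO3b.Seed

open Subgroup Cfsg
open Cfsg.Agent.ZN (o2 zc zl jj zj)
open Cfsg.Agent.ZN.ChoiceBase hiding mem_zc
open Cfsg.Agent.ZN.ChoiceSit (Syl exists_syl syl_conj o2_le_syl syl_not_dvd)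
open Cfsg.Agent.MinSimple.EmptyTI (syl_of_le)
open Cfsg.Agent.Omega.NO3b.EZero (NotFF cent_symm cj_cent cj_norm cj_eq_cj_iff cl le_cl cj_le_cl cl_le
  le_normalizer_cl le_normalizer_inf_cent oddGen_sup_syl isPGroup_Q0)
open Cfsg.Agent.Omega.FFThm (ElemM OffM NoOverM)
open Cfsg.Agent.Omega.NOThreeL.Star (Opt Ok exists_opt ff)
open Cfsg.Agent.Omega.NO3b.Wc (WC StmtOff cj_sSup)
open Cfsg.Agent.Omega.NO3b.Exit (MaxBad WW_cj WW_pgroup wc_S_le frattini offM_of_opt offM_of_max)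
open Cfsg.Agent.MinSimple.MinParabolic (IsMinPar)
open Cfsg.Agent.MinSimple.VModule (mem_zc le_centralizer_zc zc_sq le_normalizer_o2 o2_isPGroup le_o2 zc_comm
  normalizer_le_normalizer_zc o2_le oddGen oddGen_le mem_normalizer_of_map_le)
open Cfsg.Agent.Omega.NOne (Flat.Hyp Flat.Bad Flat.EE Flat.WW)

universe u

variable {G : Type u} [Group G] [Finite G] {S : Sylow 2 G}

/-- `N_G(⟨Y^H⟩) ∩ N_G(C_S(⟨Y^H⟩))` -/
def LH (S Y H : Subgroup G) : Subgroup G :=
  normalizer (cl Y H : Set G) ⊓ normalizer ((S ⊓ centralizer (cl Y H : Set G) : Subgroup G) : Set G)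

section big

variable {Y H : Subgroup G} (hS : (S : Subgroup G) ≤ H)
include hS

theorem S_le_LH : (S : Subgroup G) ≤ LH (S : Subgroup G) Y H := by
  have h1 : (S : Subgroup G) ≤ normalizer (cl Y H : Set G) := hS.trans (le_normalizer_cl _ _)
  refine le_inf h1 fun s hs => ?_
  rw [mem_normalizer_iff_cj, cj_inf, cj_centralizer, mem_normalizer_iff_cj.1 (h1 hs)]
  congr 1
  exact cj_eq_of_mem_normalizer (Subgroup.le_normalizer hs)

/-- `⟨Y^{LH}⟩ = ⟨Y^H⟩` -/
theorem cl_LH : cl Y (LH (S : Subgroup G) Y H) = cl Y H := by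
  apply le_antisymm
  · exact cl_le' (le_cl _ _) inf_le_left
  · refine cl_le' (le_cl _ _) fun x hx => ?_
    have hle : cl Y (LH (S : Subgroup G) Y H) ≤ cl Y H := cl_le' (le_cl _ _) inf_le_left
    have hxV := le_normalizer_cl Y H hx
    obtain ⟨c, hc, hcx⟩ := frattini (hS.trans (le_normalizer_cl _ _)) hxV
    have h1 : c ∈ normalizer (cl Y (LH (S : Subgroup G) Y H) : Set G) :=
      centralizer_le_normalizer _ (centralizer_le hle hc)
    have h2 : c⁻¹ * x ∈ LH (S : Subgroup G) Y H :=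
      ⟨Subgroup.mul_mem _ (Subgroup.inv_mem _ (centralizer_le_normalizer _ hc)) hxV, hcx⟩
    have h3 := Subgroup.mul_mem _ h1 (le_normalizer_cl Y _ h2)
    rwa [mul_inv_cancel_left] at h3

variable (hY : Y ≤ zc (o2 H))
include hY

omit [Finite G] hS in
theorem cl_le_zc : cl Y H ≤ zc (o2 H) := cl_le' hY ((le_normalizer_o2 H).trans (normalizer_le_normalizer_zc _))

omit [Finite G] hS in
theorem cl_cent : cl Y H ≤ centralizer (cl Y H : Set G) := by
  intro x hx
  rw [mem_centralizer_iff]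
  intro y hy
  exact zc_comm _ _ (cl_le_zc hY hy) _ (cl_le_zc hY hx)

omit [Finite G] hS in
theorem cl_sq : ∀ v ∈ cl Y H, v ^ 2 = 1 := fun v hv => zc_sq _ v (cl_le_zc hY hv)

omit [Finite G] hS in
theorem o2_cent : o2 H ≤ centralizer (cl Y H : Set G) :=
  cent_symm ((cl_le_zc hY).trans fun _ hx => mem_centralizer_iff.2 fun y hy => (mem_zc.1 hx).2.1 y hy)

/-- The w.c. frame for `⟨Y^H⟩`, if it is not FF. -/
theorem root_LH (hZ : zc (S : Subgroup G) ≤ Y) (hn : NotFF (cl Y H)) : Root S Y (LH (S : Subgroup G) Y H) where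
  le := S_le_LH hS
  ZY := hZ
  comm := by rw [cl_LH hS]; exact cl_cent hY
  sq := by rw [cl_LH hS]; exact cl_sq hY
  nff := by rw [cl_LH hS]; exact hn
  cs := by rw [cl_LH hS]; exact inf_le_right

end big

/-! ### The frame -/

/-- The local situation. -/
structure Fr (S : Sylow 2 G) (Y B H X T : Subgroup G) : Prop where
  NB : normalizer (B : Set G) ≤ H
  XH : X ≤ H
  gen : H ≤ normalizer (B : Set G) ⊔ X
  char2 : H ⊓ centralizer (o2 H : Set G) ≤ o2 H
  Yz : Y ≤ zc (o2 H)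
  TS : T ≤ (S : Subgroup G)
  BT : B ≤ T
  syl : Syl T X
  mp : IsMinPar T X
  XZ : X ≤ centralizer (zc (S : Subgroup G) : Set G)
  nle : ¬ X ≤ normalizer (VB Y B : Set G)

namespace Fr

variable {Y L B H X T : Subgroup G} (f : Fr S Y B H X T) (a : Adm S Y L B)
include f a

theorem SH : (S : Subgroup G) ≤ H := (wc_S_le a.wc).trans f.NB

omit [Finite G] a in
theorem V_le : VB Y B ≤ cl Y H := cl_mono _ f.NB

omit [Finite G] a in
theorem U_le : cl (VB Y B) X ≤ cl Y H := by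
  refine cl_le fun x hx => ?_
  have h1 := cj_mono x f.V_le
  rwa [cj_eq_of_mem_normalizer (le_normalizer_cl _ _ (f.XH hx))] at h1

theorem TV : T ≤ normalizer (VB Y B : Set G) := f.TS.trans a.lines.S_le

/-- `C_T(U) ≤ O₂(X)` -/
theorem cent_U : T ⊓ centralizer (cl (VB Y B) X : Set G) ≤ o2 X := by
  rcases K0.min_or f.syl f.mp (K := X ⊓ centralizer (cl (VB Y B) X : Set G)) inf_le_left
    (le_normalizer_inf_cent (le_normalizer_cl _ _)) with h1 | h1
  · exfalso
    apply f.nle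
    rw [← oddGen_sup_syl f.syl]
    refine sup_le ?_ (f.TV a)
    exact (h1.trans inf_le_right).trans ((centralizer_le (le_cl _ _)).trans (centralizer_le_normalizer _))
  · exact (le_inf inf_le_left (le_inf (inf_le_left.trans f.syl.1) inf_le_right)).trans h1

/-- `C_S(V_H) ≤ B` -/
theorem cs_le : (S : Subgroup G) ⊓ centralizer (cl Y H : Set G) ≤ B :=
  (inf_le_inf_left _ (centralizer_le f.V_le)).trans a.cs.le

/-- `U ≤ O₂(C_G(Z))` -/
theorem U_low : cl (VB Y B) X ≤ o2 (centralizer (zc (S : Subgroup G) : Set G)) := by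
  refine cl_le fun x hx => ?_
  have h1 := cj_mono x a.low
  rwa [cj_eq_of_mem_normalizer (le_normalizer_o2 _ (f.XZ hx))] at h1

/-- A subgroup `K` of `B`, closed under the fusion of `H` in `S` and inside `O₂(X)`, lies in `O₂(H)`. -/
theorem core {K : Subgroup G} (hKB : K ≤ B) (hcl : ∀ g ∈ H, cj g K ≤ (S : Subgroup G) → cj g K ≤ K)
    (hX : K ≤ o2 X) : K ≤ o2 H := by
  have hKS : K ≤ (S : Subgroup G) := hKB.trans a.wc.le
  refine le_o2 (hKS.trans (f.SH a)) (S.isPGroup'.to_le hKS) (f.gen.trans (sup_le ?_ ?_))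
  · intro m hm
    refine mem_normalizer_of_map_le (hcl m (f.NB hm) ?_)
    have h1 := cj_mono m hKB
    rw [cj_eq_of_mem_normalizer hm] at h1
    exact h1.trans a.wc.le
  · intro x hx
    refine mem_normalizer_of_map_le (hcl x (f.XH hx) ?_)
    have h1 := cj_mono x hX
    rw [cj_eq_of_mem_normalizer (le_normalizer_o2 _ hx)] at h1
    exact h1.trans ((o2_le_syl f.syl).trans f.TS)

/-- the same for a family of subgroups of `S`: a member which is not in `O₂(X)` -/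
theorem exists_nle {Fam : Set (Subgroup G)} (hKB : ∀ D ∈ Fam, D ≤ B)
    (hcl : ∀ g ∈ H, (∀ D ∈ Fam, cj g D ≤ (S : Subgroup G)) → ∀ D ∈ Fam, cj g D ≤ sSup Fam)
    {D₀ : Subgroup G} (hD₀ : D₀ ∈ Fam) (hne : ¬ D₀ ≤ centralizer (cl Y H : Set G)) :
    ∃ D ∈ Fam, ¬ D ≤ o2 X := by
  by_contra hcon
  push Not at hcon
  have h1 := f.core a (K := sSup Fam) (sSup_le hKB) (fun g hg hgS => ?_) (sSup_le hcon)
  · exact hne (((le_sSup hD₀).trans h1).trans (o2_cent f.Yz))
  · rw [cj_sSup]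
    exact iSup_le fun D => hcl g hg (fun D hD => (cj_mono g (le_sSup hD)).trans hgS) D D.2

/-- **(γ)** `V_H` is FF. -/
theorem gamma (hff : ¬ NotFF (cl Y H)) :
    ∃ A, Opt (cl Y H) A ∧ A ≤ B ∧ ¬ A ≤ o2 X ∧ OffM (cl (VB Y B) X) A := by
  have hSH := f.SH a
  have hVc := cl_cent f.Yz
  -- best offenders centralise `V`
  have hAV : ∀ A, Opt (cl Y H) A → A ≤ (S : Subgroup G) → A ≤ B := by
    intro A hA hAS
    refine le_trans (le_inf hAS ?_) a.cs.le
    by_contra hne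
    have hoff := offM_of_opt hA hVc f.V_le hne
    have h3 := a.nff A hA.pg (hAS.trans a.lines.S_le) hoff.sq hoff.comm hne
    exact absurd (FFThm.relIndex_le_iff.1 hoff.le) (not_le.2 h3)
  obtain ⟨A0, hA0⟩ := exists_opt hff
  obtain ⟨n, hn, hnS⟩ := FFThm.exists_conj_le S (hSH.trans (le_normalizer_cl _ _)) hA0.pg hA0.norm
  obtain ⟨D, hD, hDX⟩ := f.exists_nle a
    (Fam := {D | D = (S : Subgroup G) ⊓ centralizer (cl Y H : Set G) ∨
      Opt (cl Y H) D ∧ D ≤ (S : Subgroup G)}) (by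
      rintro D (rfl | ⟨h1, h2⟩)
      · exact f.cs_le a
      · exact hAV D h1 h2) (by
      rintro g hg hgS D (rfl | ⟨h1, h2⟩)
      · refine le_trans (le_inf (hgS _ (Or.inl rfl)) ?_) (le_sSup (Or.inl rfl))
        rw [cj_inf, cj_centralizer, cj_eq_of_mem_normalizer (le_normalizer_cl _ _ hg)]
        exact inf_le_right
      · exact le_sSup (a := cj g D) (Or.inr ⟨h1.cj (le_normalizer_cl _ _ hg), hgS D (Or.inr ⟨h1, h2⟩)⟩))
    (D₀ := cj n A0) (Or.inr ⟨hA0.cj hn, hnS⟩) (hA0.cj hn).ne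
  rcases hD with rfl | ⟨h1, h2⟩
  · exfalso
    apply hDX
    refine le_trans (le_inf ((f.cs_le a).trans f.BT) ?_) (f.cent_U a)
    exact inf_le_right.trans (centralizer_le f.U_le)
  · have h3 := hAV D h1 h2
    refine ⟨D, h1, h3, hDX, offM_of_opt h1 hVc f.U_le fun h0 => ?_⟩
    exact hDX ((le_inf (h3.trans f.BT) h0).trans (f.cent_U a))

/-- `V_H ≤ V'` -/
theorem cl_le_V' (hn : NotFF (cl Y H)) : cl Y H ≤ VL (S : Subgroup G) Y (LH (S : Subgroup G) Y H) := by
  have h1 := (root_LH (f.SH a) f.Yz a.ZY hn).cl_le_V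
  rwa [cl_LH (f.SH a)] at h1

/-- `B' ≤ C_S(V_H)` -/
theorem WH_le' : WH (S : Subgroup G) Y (LH (S : Subgroup G) Y H) ≤
    (S : Subgroup G) ⊓ centralizer (cl Y H : Set G) := by
  have h1 := WH_le (S : Subgroup G) Y (LH (S : Subgroup G) Y H)
  unfold QL at h1
  rwa [cl_LH (f.SH a)] at h1

theorem WH_le_B : WH (S : Subgroup G) Y (LH (S : Subgroup G) Y H) ≤ B := (f.WH_le' a).trans (f.cs_le a)

/-- **(β)** `V_H` is not FF, its w.c. closure `V'` is not in `O₂(C_G(Z))`. -/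
theorem beta (hG : IsCharacteristicTwoType G) (hOff : StmtOff G) (hSne : (S : Subgroup G) ≠ ⊥)
    (hn : NotFF (cl Y H))
    (hV : ¬ VL (S : Subgroup G) Y (LH (S : Subgroup G) Y H) ≤ o2 (centralizer (zc (S : Subgroup G) : Set G))) :
    ∃ F, MaxBad (VL (S : Subgroup G) Y (LH (S : Subgroup G) Y H)) F ∧
      Flat.WW (VL (S : Subgroup G) Y (LH (S : Subgroup G) Y H)) F ≤ B ∧
      ¬ Flat.WW (VL (S : Subgroup G) Y (LH (S : Subgroup G) Y H)) F ≤ o2 X ∧
      OffM (cl (VB Y B) X) (Flat.WW (VL (S : Subgroup G) Y (LH (S : Subgroup G) Y H)) F) := by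
  have h := root_LH (f.SH a) f.Yz a.ZY hn
  set V' := VL (S : Subgroup G) Y (LH (S : Subgroup G) Y H) with hV'
  obtain ⟨F0, hF0, hS0, hne0⟩ := exists_WW hG hSne h hV
  rw [cl_LH (f.SH a)] at hne0
  have hWB : ∀ F, MaxBad V' F → Flat.WW V' F ≤ (S : Subgroup G) → Flat.WW V' F ≤ B := by
    intro F hF hFS
    refine le_trans (le_inf hFS ?_) a.cs.le
    by_contra hne
    have hoff := off_of hG hOff h hF hFS (f.V_le.trans (f.cl_le_V' a hn)) a.low hne
    have h3 := a.nff _ (WW_pgroup _ _) (hFS.trans a.lines.S_le) hoff.sq hoff.comm hne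
    exact absurd (FFThm.relIndex_le_iff.1 hoff.le) (not_le.2 h3)
  obtain ⟨D, hD, hDX⟩ := f.exists_nle a
    (Fam := {D | D = WH (S : Subgroup G) Y (LH (S : Subgroup G) Y H) ∨
      ∃ F, MaxBad V' F ∧ Flat.WW V' F = D ∧ Flat.WW V' F ≤ (S : Subgroup G)}) (by
      rintro D (rfl | ⟨F, hF, rfl, hFS⟩)
      · exact f.WH_le_B a
      · exact hWB F hF hFS) (by
      intro g hg hgS
      have hgM : g ∈ ML (S : Subgroup G) Y (LH (S : Subgroup G) Y H) := mem_ML_of_le (hgS _ (Or.inl rfl))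
      rintro D (rfl | ⟨F, hF, rfl, hFS⟩)
      · rw [cj_eq_of_mem_normalizer hgM]
        exact le_sSup (Or.inl rfl)
      · have h1 := WW_cj (F := F) (ML_le_norm_V _ _ _ hgM)
        have h2 := hgS _ (Or.inr ⟨F, hF, rfl, hFS⟩)
        rw [← h1] at h2 ⊢
        exact le_sSup (Or.inr ⟨cj g F, hF.cj (ML_le_norm_V _ _ _ hgM), rfl, h2⟩))
    (D₀ := Flat.WW V' F0) (Or.inr ⟨F0, hF0, rfl, hS0⟩) hne0
  rcases hD with rfl | ⟨F, hF, rfl, hFS⟩
  · exfalso
    apply hDX
    refine le_trans (le_inf ((f.WH_le_B a).trans f.BT) ?_) (f.cent_U a)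
    exact (f.WH_le' a).trans (inf_le_right.trans (centralizer_le f.U_le))
  · have h3 := hWB F hF hFS
    refine ⟨F, hF, h3, hDX, off_of hG hOff h hF hFS (f.U_le.trans (f.cl_le_V' a hn)) (f.U_low a)
      fun h0 => ?_⟩
    exact hDX ((le_inf (h3.trans f.BT) h0).trans (f.cent_U a))

/-- `V_H` is not FF, `V' ≤ O₂(C_G(Z))`: `B'` is admissible and smaller. -/
theorem closed (hn : NotFF (cl Y H))
    (hV : VL (S : Subgroup G) Y (LH (S : Subgroup G) Y H) ≤ o2 (centralizer (zc (S : Subgroup G) : Set G))) :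
    Adm S Y L (WH (S : Subgroup G) Y (LH (S : Subgroup G) Y H)) ∧
      WH (S : Subgroup G) Y (LH (S : Subgroup G) Y H) ≤ B ∧
      WH (S : Subgroup G) Y (LH (S : Subgroup G) Y H) ≠ B := by
  have h := root_LH (f.SH a) f.Yz a.ZY hn
  have h1 := Adm.of_root h hV
  refine ⟨⟨a.ZY, h1.wc, (f.WH_le_B a).trans a.le, h1.cs, h1.comm, h1.sq, h1.nff, h1.low⟩, f.WH_le_B a,
    fun h0 => ?_⟩
  apply f.nle
  have h2 : cl Y H ≤ VB Y B := by
    have h3 := f.cl_le_V' a hn
    have h4 : VL (S : Subgroup G) Y (LH (S : Subgroup G) Y H) =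
        VB Y (WH (S : Subgroup G) Y (LH (S : Subgroup G) Y H)) := rfl
    rwa [h4, h0] at h3
  have h3 : cl (VB Y B) X = VB Y B :=
    le_antisymm (f.U_le.trans h2) (le_cl _ _)
  have h4 := le_normalizer_cl (VB Y B) X
  rwa [h3] at h4

/-! ### `⟨V^⟨S,X⟩⟩` -/

omit [Finite G] a in
/-- `⟨S, X⟩ ≤ C_G(Z)` -/
theorem SX_cent : (S : Subgroup G) ⊔ X ≤ centralizer (zc (S : Subgroup G) : Set G) :=
  sup_le (le_centralizer_zc _) f.XZ

/-- `⟨V^⟨S,X⟩⟩ ≤ O₂(C_G(Z))` -/
theorem Y_low : cl (VB Y B) ((S : Subgroup G) ⊔ X) ≤ o2 (centralizer (zc (S : Subgroup G) : Set G)) := by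
  refine cl_le fun x hx => ?_
  have h1 := cj_mono x a.low
  rwa [cj_eq_of_mem_normalizer (le_normalizer_o2 _ (f.SX_cent hx))] at h1

theorem Y_le_S : cl (VB Y B) ((S : Subgroup G) ⊔ X) ≤ (S : Subgroup G) :=
  (f.Y_low a).trans (o2_le_syl (syl_of_le (le_centralizer_zc _)))

/-- `⟨V^⟨S,X⟩⟩ ≤ V_H` -/
theorem Y_le : cl (VB Y B) ((S : Subgroup G) ⊔ X) ≤ cl Y H := by
  refine cl_le fun x hx => ?_
  have h1 := cj_mono x f.V_le
  rwa [cj_eq_of_mem_normalizer (le_normalizer_cl _ _ ((sup_le (f.SH a) f.XH) hx))] at h1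

theorem Y_comm : cl (VB Y B) ((S : Subgroup G) ⊔ X) ≤
    centralizer (cl (VB Y B) ((S : Subgroup G) ⊔ X) : Set G) := by
  intro x hx
  rw [mem_centralizer_iff]
  intro y hy
  exact (mem_centralizer_iff.1 (cl_cent f.Yz (f.Y_le a hx)) y (f.Y_le a hy))

theorem Y_sq : ∀ y ∈ cl (VB Y B) ((S : Subgroup G) ⊔ X), y ^ 2 = 1 := fun y hy =>
  cl_sq f.Yz y (f.Y_le a hy)

omit [Finite G] f a in
theorem U_le_Y : cl (VB Y B) X ≤ cl (VB Y B) ((S : Subgroup G) ⊔ X) :=
  cl_le fun _ hx => cj_le_cl (le_sup_right (a := (S : Subgroup G)) hx)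

omit [Finite G] f a in
theorem V_le_Y : VB Y B ≤ cl (VB Y B) ((S : Subgroup G) ⊔ X) := le_cl _ _

/-- `C_{⟨V^⟨S,X⟩⟩}(S) ≤ Z` -/
theorem Y_inf_cent : cl (VB Y B) ((S : Subgroup G) ⊔ X) ⊓ centralizer (S : Set G) ≤
    zc (S : Subgroup G) := by
  rintro y ⟨hy, hyc⟩
  exact Cfsg.Agent.ZN.ChoiceBase.mem_zc.2 ⟨f.Y_le_S a hy, f.Y_sq a y hy, fun s hs => mem_centralizer_iff.1 hyc s hs⟩

/-- maximisers on `⟨V^⟨S,X⟩⟩` in `S` centralise `V` -/
theorem max_le {D : Subgroup G} (hD : Ok (cl (VB Y B) ((S : Subgroup G) ⊔ X)) D)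
    (hm : ∀ C, Ok (cl (VB Y B) ((S : Subgroup G) ⊔ X)) C →
      ff (cl (VB Y B) ((S : Subgroup G) ⊔ X)) C ≤
        ff (cl (VB Y B) ((S : Subgroup G) ⊔ X)) D) (hDS : D ≤ (S : Subgroup G)) :
    D ≤ centralizer (VB Y B : Set G) := by
  by_contra hne
  have hoff := offM_of_max hD hm (f.Y_comm a) V_le_Y hne
  have h3 := a.nff D hD.pg (hDS.trans a.lines.S_le) hoff.sq hoff.comm hne
  exact absurd (FFThm.relIndex_le_iff.1 hoff.le) (not_le.2 h3)

end Fr

end Cfsg.Agent.Omega.NO3b.Seed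

end

section


/-!
# The chain with a seed `Y`: `(M(L), V(L))` is a pair for #19499

`Stage S Y L`, `V = V(L) = VL S Y L`, `M = M(L)`, `C = C_G(Z)`.

* `Stage.hzV` : conjugates of `V` which meet commute; `Stage.W_comm`, `Stage.W_sq` : `⟨V^C⟩` is elementary abelian;
* `Stage.flagV` : `ClosedPt.Flag S Z V`; `Stage.geoV` : `ClosedPt.Geo S Z V M` if `⟨M, C⟩` is not local;
* `Stage.cent_le` : (ITR) `Z ≤ A ≤ V`, `S ≤ N(A)`, `C_S(A) ≤ C(V)`: then `C_G(A) ≤ C_G(V)`.
-/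

set_option autoImplicit false
set_option linter.unusedSectionVars false

namespace Cfsg.Agent.Omega.NO3b.Seed

open Subgroup Cfsg
open Cfsg.Agent.ZN (o2 zc zl jj zj)
open Cfsg.Agent.ZN.ChoiceBase hiding mem_zc
open Cfsg.Agent.ZN.ChoiceSit (Syl o2_le_syl syl_not_dvd)
open Cfsg.Agent.MinSimple.EmptyTI (syl_of_le)
open Cfsg.Agent.Omega.MinPar Cfsg.Agent.Omega.Frame Cfsg.Agent.Omega.FrameNOFF
open Cfsg.Agent.Omega.NO3b.EZero (NotFF Par cl cl_le le_cl cj_le_cl le_normalizer_cl cent_symm)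
open Cfsg.Agent.Omega.NO3b.ClosedPt (Flag Clo Geo)
open Cfsg.Agent.Omega.NO3b.Chain (le_normalizer_inf le_normalizer_centralizer)
open Cfsg.Agent.MinSimple.VModule (le_centralizer_zc le_normalizer_o2 mem_zc)

universe u

variable {G : Type u} [Group G] [Finite G] {S : Sylow 2 G} {Y L : Subgroup G}

section

variable (h : Stage S Y L) (hc : IsCharacteristicTwoType G) (hne : zc (S : Subgroup G) ≠ ⊥)
include h hc hne

/-- conjugates of `V(L)` which meet commute -/
theorem Stage.hzV (a b : G) (hab : cj a (VL (S : Subgroup G) Y L) ⊓ cj b (VL (S : Subgroup G) Y L) ≠ ⊥) :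
    cj a (VL (S : Subgroup G) Y L) ≤ centralizer ((cj b (VL (S : Subgroup G) Y L) : Subgroup G) : Set G) :=
  (h.lines hc hne).comm_of_inter ((h.lines hc hne).char2 hc) hab

/-- `V(L) ≤ O₂(C_G(Z))` -/
theorem Stage.geo_low_V : VL (S : Subgroup G) Y L ≤ o2 (centralizer (zc (S : Subgroup G) : Set G)) :=
  h.toRoot.low hc (Final.stmtOff G) h.low hne

/-- `⟨V^{C_G(Z)}⟩ ≤ O₂(C_G(Z))` -/
theorem Stage.W_le : cl (VL (S : Subgroup G) Y L) (centralizer (zc (S : Subgroup G) : Set G)) ≤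
    o2 (centralizer (zc (S : Subgroup G) : Set G)) := cl_le fun x hx => by
  have h1 := cj_mono x (h.geo_low_V hc hne)
  rwa [cj_eq_of_mem_normalizer (le_normalizer_o2 _ hx)] at h1

/-- `⟨V^{C_G(Z)}⟩` is abelian -/
theorem Stage.W_comm : cl (VL (S : Subgroup G) Y L) (centralizer (zc (S : Subgroup G) : Set G)) ≤
    centralizer (cl (VL (S : Subgroup G) Y L) (centralizer (zc (S : Subgroup G) : Set G)) : Set G) := by
  have key : ∀ c ∈ centralizer (zc (S : Subgroup G) : Set G), zc (S : Subgroup G) ≤ cj c (VL (S : Subgroup G) Y L) := by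
    intro c hcc z hz
    rw [mem_cj]
    have h1 := mem_centralizer_iff.1 hcc z hz
    have e : c⁻¹ * z * c = z := by rw [mul_assoc, h1]; group
    rw [e]
    exact h.zc_le_V hz
  refine cl_le fun a ha => cent_symm (cl_le fun b hb => ?_)
  refine h.hzV hc hne b a fun h0 => hne ?_
  rw [eq_bot_iff, ← h0]
  exact le_inf (key b hb) (key a ha)

theorem Stage.W_sq : ∀ a ∈ cl (VL (S : Subgroup G) Y L) (centralizer (zc (S : Subgroup G) : Set G)), a ^ 2 = 1 := by
  have hcomm : ∀ a ∈ cl (VL (S : Subgroup G) Y L) (centralizer (zc (S : Subgroup G) : Set G)),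
      ∀ b ∈ cl (VL (S : Subgroup G) Y L) (centralizer (zc (S : Subgroup G) : Set G)), a * b = b * a :=
    fun a ha b hb => mem_centralizer_iff.1 (h.W_comm hc hne hb) a ha
  let K : Subgroup G :=
    { carrier := {a | a ∈ cl (VL (S : Subgroup G) Y L) (centralizer (zc (S : Subgroup G) : Set G)) ∧ a ^ 2 = 1}
      one_mem' := ⟨one_mem _, one_pow _⟩
      mul_mem' := fun {a b} ha hb => ⟨mul_mem ha.1 hb.1, by
        rw [(show Commute a b from hcomm a ha.1 b hb.1).mul_pow, ha.2, hb.2, one_mul]⟩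
      inv_mem' := fun {a} ha => ⟨inv_mem ha.1, by rw [inv_pow, ha.2, inv_one]⟩ }
  have h1 : cl (VL (S : Subgroup G) Y L) (centralizer (zc (S : Subgroup G) : Set G)) ≤ K := cl_le fun x hx y hy =>
    ⟨cj_le_cl hx hy, by
      have h2 := h.V_sq _ (mem_cj.1 hy)
      have e : y = x * (x⁻¹ * y * x) * x⁻¹ := by group
      rw [e, conj_pow, h2, mul_one, mul_inv_cancel]⟩
  exact fun a ha => (h1 ha).2

/-- `C_W(S) = Z`, `W = ⟨V^{C_G(Z)}⟩` -/
theorem Stage.W_fix {w : G} (hw : w ∈ cl (VL (S : Subgroup G) Y L) (centralizer (zc (S : Subgroup G) : Set G)))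
    (hS : ∀ s ∈ (S : Subgroup G), s * w = w * s) : w ∈ zc (S : Subgroup G) :=
  mem_zc.2 ⟨((h.W_le hc hne).trans (o2_le_syl (syl_of_le (le_centralizer_zc _)))) hw, fun s hs => hS s hs,
    h.W_sq hc hne w hw⟩

theorem Stage.flagV : Flag (S : Subgroup G) (zc (S : Subgroup G)) (VL (S : Subgroup G) Y L) :=
  Flag.of_fix (syl_of_le (le_centralizer_zc _)) h.zc_le_V (h.S_le.trans (ML_le_norm_V _ _ _)) (h.geo_low_V hc hne)
    (h.W_comm hc hne) (fun v hv => by rw [← pow_two]; exact h.V_sq v hv)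
    (fun _ hw hS _ => h.W_fix hc hne hw hS)

/-- **`(M(L), V(L))` is a pair for #19499.** -/
theorem Stage.geoV (hn : NonLoc (ML (S : Subgroup G) Y L) (CZ (S : Subgroup G))) :
    Geo (S : Subgroup G) (zc (S : Subgroup G)) (VL (S : Subgroup G) Y L) (ML (S : Subgroup G) Y L) where
  flag := h.flagV hc hne
  ne := hne
  norm := ML_le_norm_V _ _ _
  hz := h.hzV hc hne
  nonloc := hn

/-- **(0), ITR on an `S`-invariant subgroup**: `Z ≤ A ≤ V(L)`, `C_S(A) ≤ C(V)`: then `C_G(A) ≤ C_G(V)`. -/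
theorem Stage.cent_le {A : Subgroup G} (hZA : zc (S : Subgroup G) ≤ A) (hSA : (S : Subgroup G) ≤ normalizer (A : Set G))
    (hcs : (S : Subgroup G) ⊓ centralizer (A : Set G) ≤ centralizer (VL (S : Subgroup G) Y L : Set G)) :
    centralizer (A : Set G) ≤ centralizer (VL (S : Subgroup G) Y L : Set G) := by
  have hCZ : centralizer (A : Set G) ≤ centralizer (zc (S : Subgroup G) : Set G) := centralizer_le hZA
  have hWn : centralizer (zc (S : Subgroup G) : Set G) ≤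
      normalizer (cl (VL (S : Subgroup G) Y L) (centralizer (zc (S : Subgroup G) : Set G)) : Set G) :=
    le_normalizer_cl _ _
  have key := ClosedPt.trace (W := cl (VL (S : Subgroup G) Y L) (centralizer (zc (S : Subgroup G) : Set G)))
    (X := centralizer (A : Set G)) (T := (S : Subgroup G))
    (fun a ha b hb => mem_centralizer_iff.1 (h.W_comm hc hne hb) a ha)
    (fun a ha => by rw [← pow_two]; exact h.W_sq hc hne a ha) (hCZ.trans hWn) S.isPGroup'
    ((le_centralizer_zc _).trans hWn) (le_normalizer_centralizer hSA) (syl_not_dvd (Exit.syl_cs hSA))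
    (fun w hw hf x hx => (mem_centralizer_iff.1 (hCZ hx) w (h.W_fix hc hne hw hf)).symm)
  intro x hx
  rw [mem_centralizer_iff]
  intro v hv
  exact (key v (le_cl _ _ hv) (fun t ht => (mem_centralizer_iff.1 (hcs ht) v hv).symm) x hx).symm

end

end Cfsg.Agent.Omega.NO3b.Seed

end

section


/-!
# NotFF (c), local exit: LEMMA T along the chain with a seed `Y` (helper235's `Chain/LemT.lean`)

`L` is reached from `P`, `M = M(L)` normalises a subgroup `R`, `D = S ∩ R`.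

* `le_WH_of_cent` : (T1) `[V_L, D] = 1` implies `D ≤ W(L)`;
* `Step.cent_of_le` : (T2) `D ≤ W(L)`, `O²(X) ≰ R` imply `[V_{L'}, D] = 1`;
* `lemT`, `lemT_WH` : **LEMMA T**: `[V_P, D] = 1` implies `[V(L), D] = 1`, if `O²(X) ≰ R` for all panels `X` used;
* `lemT_fix` : the same if `O²(X)` centralises `C_{V(L)}(D)` for all `X ≤ C_M(Z)` with `O²(X) ≤ R`;
* `oddGen_le` : if `[V(L), D] ≠ 1`, then `O²(P) ≤ R`, `P ∈ P*(S)`.
-/

set_option autoImplicit false
set_option linter.unusedSectionVars false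

namespace Cfsg.Agent.Omega.NO3b.Seed

open Subgroup Cfsg
open Cfsg.Agent.ZN (o2 zc zl jj zj)
open Cfsg.Agent.ZN.ChoiceBase hiding mem_zc
open Cfsg.Agent.ZN.ChoiceSit (Syl o2_le_syl)
open Cfsg.Agent.Omega.MinPar Cfsg.Agent.Omega.Frame
open Cfsg.Agent.Omega.NO3b.EZero (NotFF Par cent_symm cl le_cl cj_le_cl cl_le le_normalizer_cl)
open Cfsg.Agent.Omega.NO3b.Alpha (Fl)
open Cfsg.Agent.Omega.NO3b.NoEmp (Lines)
open Cfsg.Agent.Omega.NO3b.Chain (le_normalizer_inf le_normalizer_centralizer cj_inf_le)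
open Cfsg.Agent.MinSimple.VModule (oddGen oddGen_le oddGen_le_of_sup le_normalizer_o2 le_centralizer_zc)

universe u

variable {G : Type u} [Group G] [Finite G] {S : Sylow 2 G} {Y P L F T X R : Subgroup G}

/-- **(T1)** -/
theorem le_WH_of_cent (hR : ML (S : Subgroup G) Y L ≤ normalizer (R : Set G))
    (hD : (S : Subgroup G) ⊓ R ≤ centralizer (cl Y L : Set G)) :
    (S : Subgroup G) ⊓ R ≤ WH (S : Subgroup G) Y L := by
  set K : Subgroup G := (S : Subgroup G) ⊓ R ⊔ WH (S : Subgroup G) Y L with hK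
  have hKQ : K ≤ QL (S : Subgroup G) Y L := sup_le (le_inf inf_le_left hD) (WH_le _ _ _)
  refine (le_sup_left : (S : Subgroup G) ⊓ R ≤ K).trans (le_WH ⟨hKQ.trans inf_le_left, fun g hg => ?_⟩ hKQ)
  have h2 : g ∈ ML (S : Subgroup G) Y L := mem_ML_of_le ((cj_mono g le_sup_right).trans hg)
  have h4 : cj g K ≤ K := by
    change Subgroup.map _ _ ≤ _
    rw [hK, Subgroup.map_sup]
    refine sup_le_sup (cj_inf_le hR h2 ((cj_mono g le_sup_left).trans hg)) ?_
    exact (cj_eq_of_mem_normalizer h2).le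
  exact Subgroup.eq_of_le_of_card_ge h4 (card_cj _ _).ge

/-- **(T2)** -/
theorem Step.cent_of_le (s : Step S Y L F T X) (h : Root S Y L)
    (l : Lines S (WH (S : Subgroup G) Y L) (VL (S : Subgroup G) Y L))
    (hR : nx (S : Subgroup G) Y L X ≤ normalizer (R : Set G)) (hD : (S : Subgroup G) ⊓ R ≤ WH (S : Subgroup G) Y L)
    (hX : ¬ oddGen X ≤ R) :
    (S : Subgroup G) ⊓ R ≤ centralizer (cl Y (nx (S : Subgroup G) Y L X) : Set G) := by
  have h1 : (S : Subgroup G) ⊓ R = WH (S : Subgroup G) Y L ⊓ R :=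
    le_antisymm (le_inf hD inf_le_right) (inf_le_inf_right _ (WH_le_S _ _ _))
  have h2 : (S : Subgroup G) ⊓ R = o2 X ⊓ R := by
    apply le_antisymm
    · refine le_inf ?_ inf_le_right
      rcases s.min_or l (K := X ⊓ R) inf_le_left
        (le_normalizer_inf Subgroup.le_normalizer (Step.X_le.trans hR)) with h3 | h3
      · exact absurd (h3.trans inf_le_right) hX
      · have h4 : (S : Subgroup G) ⊓ R ≤ T := hD.trans (s.WH_le h)
        exact (le_inf h4 (le_inf (h4.trans s.par.T_le) inf_le_right)).trans h3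
    · exact inf_le_inf_right _ ((o2_le_syl (s.fl.sylX s.par)).trans s.fl.T_le)
  have h5 : nx (S : Subgroup G) Y L X ≤ normalizer (((S : Subgroup G) ⊓ R : Subgroup G) : Set G) := by
    refine sup_le ?_ ?_
    · rw [h1]
      exact le_normalizer_inf le_rfl (Step.ML_le.trans hR)
    · rw [h2]
      exact le_normalizer_inf (le_normalizer_o2 X) (Step.X_le.trans hR)
  refine cent_symm (cl_le' ?_ (le_normalizer_centralizer h5))
  exact cent_symm (hD.trans (h.WH_cent.trans (centralizer_le (Y_le_V _ _ _))))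

/-- **LEMMA T** along the chain, `D ≤ W(L)`. -/
theorem lemT_WH (hc : IsCharacteristicTwoType G) (hne : zc (S : Subgroup G) ≠ ⊥) (hP : Stage S Y P)
    (r : Reach S Y P L) (hR : ML (S : Subgroup G) Y L ≤ normalizer (R : Set G))
    (hX : ∀ L₁ F T X : Subgroup G, Reach S Y P L₁ → Step S Y L₁ F T X → Reach S Y (nx (S : Subgroup G) Y L₁ X) L →
      (S : Subgroup G) ⊓ R ≤ WH (S : Subgroup G) Y L₁ → ¬ oddGen X ≤ R)
    (h0 : (S : Subgroup G) ⊓ R ≤ centralizer (cl Y P : Set G)) :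
    (S : Subgroup G) ⊓ R ≤ WH (S : Subgroup G) Y L := by
  have key : ∀ L₁ : Subgroup G, Reach S Y P L₁ → Reach S Y L₁ L →
      (S : Subgroup G) ⊓ R ≤ centralizer (cl Y L₁ : Set G) := by
    intro L₁ r₁
    induction r₁ with
    | base => exact fun _ => h0
    | @step L₂ F T X r₂ s ih =>
      intro r₃
      have hs := r₂.stage hc hne hP
      have hs' := (r₂.step s).stage hc hne hP
      have r₄ : Reach S Y L₂ L := (Reach.base.step s).trans r₃
      have h1 := le_WH_of_cent ((r₄.ML_le hc hne hs).trans hR) (ih r₄)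
      exact s.cent_of_le hs.toRoot (hs.lines hc hne) ((hs'.L_le.trans (r₃.ML_le hc hne hs')).trans hR) h1
        (hX L₂ F T X r₂ s r₃ h1)
  exact le_WH_of_cent hR (key L r Reach.base)

/-- **LEMMA T** along the chain. -/
theorem lemT (hc : IsCharacteristicTwoType G) (hne : zc (S : Subgroup G) ≠ ⊥) (hP : Stage S Y P)
    (r : Reach S Y P L) (hR : ML (S : Subgroup G) Y L ≤ normalizer (R : Set G))
    (hX : ∀ L₁ F T X : Subgroup G, Reach S Y P L₁ → Step S Y L₁ F T X → Reach S Y (nx (S : Subgroup G) Y L₁ X) L →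
      (S : Subgroup G) ⊓ R ≤ WH (S : Subgroup G) Y L₁ → ¬ oddGen X ≤ R)
    (h0 : (S : Subgroup G) ⊓ R ≤ centralizer (cl Y P : Set G)) :
    (S : Subgroup G) ⊓ R ≤ centralizer (VL (S : Subgroup G) Y L : Set G) :=
  (lemT_WH hc hne hP r hR hX h0).trans (r.stage hc hne hP).WH_cent

/-- The panels used: `X ≤ C_M(Z)`, and `O²(X)` does not centralise `C_{V(L)}(D)` if `D ≤ W(L₁)`. -/
theorem not_cent_of (hc : IsCharacteristicTwoType G) (hne : zc (S : Subgroup G) ≠ ⊥) (hP : Stage S Y P)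
    {L₁ : Subgroup G} (r₁ : Reach S Y P L₁) (s : Step S Y L₁ F T X) (r₃ : Reach S Y (nx (S : Subgroup G) Y L₁ X) L)
    (hD : (S : Subgroup G) ⊓ R ≤ WH (S : Subgroup G) Y L₁) :
    X ≤ ML (S : Subgroup G) Y L ∧ X ≤ centralizer (zc (S : Subgroup G) : Set G) ∧
      ¬ oddGen X ≤ centralizer ((VL (S : Subgroup G) Y L ⊓
        centralizer (((S : Subgroup G) ⊓ R : Subgroup G) : Set G) : Subgroup G) : Set G) := by
  have hs := r₁.stage hc hne hP
  have hs' := (r₁.step s).stage hc hne hP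
  refine ⟨(Step.X_le.trans hs'.L_le).trans (r₃.ML_le hc hne hs'), s.par.le.trans (centralizer_le s.zF), ?_⟩
  intro h1
  apply s.oddGen_nle hs.toRoot
  refine (h1.trans (centralizer_le ?_)).trans (centralizer_le_normalizer _)
  refine le_inf ((s.lt hs'.toRoot).le.trans (r₃.V_le hc hne hs')) ?_
  exact cent_symm (hD.trans hs.WH_cent)

/-- **LEMMA T**, the panels excluded by the action on `C_{V(L)}(D)`. -/
theorem lemT_fix (hc : IsCharacteristicTwoType G) (hne : zc (S : Subgroup G) ≠ ⊥) (hP : Stage S Y P)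
    (r : Reach S Y P L) (hR : ML (S : Subgroup G) Y L ≤ normalizer (R : Set G))
    (hX : ∀ X : Subgroup G, X ≤ ML (S : Subgroup G) Y L → X ≤ centralizer (zc (S : Subgroup G) : Set G) →
      oddGen X ≤ R → oddGen X ≤ centralizer ((VL (S : Subgroup G) Y L ⊓
        centralizer (((S : Subgroup G) ⊓ R : Subgroup G) : Set G) : Subgroup G) : Set G))
    (h0 : (S : Subgroup G) ⊓ R ≤ centralizer (cl Y P : Set G)) :
    (S : Subgroup G) ⊓ R ≤ centralizer (VL (S : Subgroup G) Y L : Set G) := by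
  refine lemT hc hne hP r hR (fun L₁ F T X r₁ s r₃ hD hXR => ?_) h0
  obtain ⟨h1, h2, h3⟩ := not_cent_of hc hne hP r₁ s r₃ hD
  exact h3 (hX X h1 h2 hXR)

/-- **If `[V(L), D] ≠ 1`, then `O²(P) ≤ R`**, `P ∈ P*(S)`, `C_S(V_P)` centralises `⟨Y^P⟩`. -/
theorem oddGen_le_of_not (hc : IsCharacteristicTwoType G) (hne : zc (S : Subgroup G) ≠ ⊥)
    (hPar : IsPar (S : Subgroup G) P) (hP : Stage S Y P)
    (hQ : (S : Subgroup G) ⊓ centralizer (zl (S : Subgroup G) P : Set G) ≤ centralizer (cl Y P : Set G))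
    (r : Reach S Y P L) (hR : ML (S : Subgroup G) Y L ≤ normalizer (R : Set G))
    (hX : ∀ X : Subgroup G, X ≤ ML (S : Subgroup G) Y L → X ≤ centralizer (zc (S : Subgroup G) : Set G) →
      oddGen X ≤ R → oddGen X ≤ centralizer ((VL (S : Subgroup G) Y L ⊓
        centralizer (((S : Subgroup G) ⊓ R : Subgroup G) : Set G) : Subgroup G) : Set G))
    (hV : ¬ (S : Subgroup G) ⊓ R ≤ centralizer (VL (S : Subgroup G) Y L : Set G)) : oddGen P ≤ R :=
  (Chain.oddGen_le_or hc hPar (((r.le hc hne hP).trans (r.stage hc hne hP).L_le).trans hR)).resolve_right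
    fun h0 => hV (lemT_fix hc hne hP r hR hX ((le_inf inf_le_left h0).trans hQ))

end Cfsg.Agent.Omega.NO3b.Seed

end

end

-- merged: Cfsg.Agent.Mrg.Omega.NO3b.Seed.Two
section

/-!
# The chain with a seed `Y`: (C2) at the last member (#20856 (1); helper235's `Chain/Two.lean`)

`V_H = ⟨Y^H⟩` is FF or `V_H ≰ O₂(C_G(Z))`, `H = nx S Y L X`.

* `Stage.adm`, `Stage.fr` : `WH S Y L` is admissible, the frame `Fr` for `H`;
* `MD`, `main_of` : (γ) or (β); `Y_ff_of`, `exists_optY_of`, `two_of`;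
* `Stage.two`, `Stage.exists_optY`, `Stage.exists_opt` at the last member.
-/

set_option autoImplicit false
set_option linter.unusedSectionVars false

namespace Cfsg.Agent.Omega.NO3b.Seed

open Subgroup Cfsg
open Cfsg.Agent.ZN (o2 zc zl jj zj)
open Cfsg.Agent.ZN.ChoiceBase hiding mem_zc
open Cfsg.Agent.ZN.ChoiceSit (Syl exists_syl syl_conj o2_le_syl syl_not_dvd)
open Cfsg.Agent.MinSimple.EmptyTI (syl_of_le)
open Cfsg.Agent.Omega.MinPar (IsLoc)
open Cfsg.Agent.Omega.NO3b.EZero (NotFF cent_symm cj_cent cj_norm cl le_cl cj_le_cl cl_le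
  le_normalizer_cl oddGen_sup_syl Par)
open Cfsg.Agent.Omega.NO3b.Alpha (Fl)
open Cfsg.Agent.Omega.NO3b.NoEmp (Lines)
open Cfsg.Agent.Omega.FFThm (ElemM OffM NoOverM)
open Cfsg.Agent.Omega.NOThreeL.Star (Opt Ok exists_opt ff)
open Cfsg.Agent.Omega.NO3b.Wc (WC StmtOff cj_sSup)
open Cfsg.Agent.Omega.NO3b.Exit (MaxBad WW_cj WW_pgroup offM_of_opt offM_of_max pan char2_of_loc)
open Cfsg.Agent.MinSimple.VModule (le_normalizer_o2 o2_isPGroup le_o2 oddGen oddGen_le mem_normalizer_of_map_le)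
open Cfsg.Agent.Omega.NOne (Flat.Hyp Flat.Bad Flat.EE Flat.WW)
open Cfsg.Agent.Omega.NO3b.K0.Mix (Pan Two)

universe u

variable {G : Type u} [Group G] [Finite G] {S : Sylow 2 G} {Y P L F T X : Subgroup G}

/-- (γ) or (β). -/
def MD (S : Sylow 2 G) (Y B H X : Subgroup G) : Prop :=
  (¬ NotFF (cl Y H) ∧
    ∃ A, Opt (cl Y H) A ∧ A ≤ B ∧ ¬ A ≤ o2 X ∧ OffM (cl (VB Y B) X) A) ∨
  (NotFF (cl Y H) ∧
    ¬ VL (S : Subgroup G) Y (LH (S : Subgroup G) Y H) ≤ o2 (centralizer (zc (S : Subgroup G) : Set G)) ∧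
    ∃ F, MaxBad (VL (S : Subgroup G) Y (LH (S : Subgroup G) Y H)) F ∧
      Flat.WW (VL (S : Subgroup G) Y (LH (S : Subgroup G) Y H)) F ≤ B ∧
      ¬ Flat.WW (VL (S : Subgroup G) Y (LH (S : Subgroup G) Y H)) F ≤ o2 X ∧
      OffM (cl (VB Y B) X) (Flat.WW (VL (S : Subgroup G) Y (LH (S : Subgroup G) Y H)) F))

section fr

variable {B H : Subgroup G} (f : Fr S Y B H X T) (a : Adm S Y L B)
include f a

/-- `V_H` is FF or not in `O₂(C_G(Z))`: (γ) or (β). -/
theorem main_of (hG : IsCharacteristicTwoType G) (hOff : StmtOff G) (hSne : (S : Subgroup G) ≠ ⊥)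
    (h : ¬ NotFF (cl Y H) ∨
      ¬ cl Y H ≤ o2 (centralizer (zc (S : Subgroup G) : Set G))) : MD S Y B H X := by
  by_cases hn : NotFF (cl Y H)
  · have h1 := h.resolve_left (not_not.2 hn)
    have hV : ¬ VL (S : Subgroup G) Y (LH (S : Subgroup G) Y H) ≤
        o2 (centralizer (zc (S : Subgroup G) : Set G)) := fun h2 => h1 ((f.cl_le_V' a hn).trans h2)
    exact Or.inr ⟨hn, hV, f.beta a hG hOff hSne hn hV⟩
  · exact Or.inl ⟨hn, f.gamma a hn⟩

/-- **`⟨V^⟨S,X⟩⟩` is FF.** -/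
theorem Y_ff_of (hG : IsCharacteristicTwoType G) (hOff : StmtOff G) (hm : MD S Y B H X) :
    ¬ NotFF (cl (VB Y B) ((S : Subgroup G) ⊔ X)) := by
  intro hn
  have hYS : (S : Subgroup G) ≤ normalizer (cl (VB Y B) ((S : Subgroup G) ⊔ X) : Set G) :=
    le_sup_left.trans (le_normalizer_cl _ _)
  have key : ∀ D : Subgroup G, D ≤ B → ¬ D ≤ o2 X →
      ¬ D ≤ centralizer (cl (VB Y B) ((S : Subgroup G) ⊔ X) : Set G) := by
    intro D hDB hDX h0
    exact hDX ((le_inf (hDB.trans f.BT) (h0.trans (centralizer_le Fr.U_le_Y))).trans (f.cent_U a))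
  have fin : ∀ D : Subgroup G, D ≤ B → OffM (cl (VB Y B) ((S : Subgroup G) ⊔ X)) D → False := by
    intro D hDB hoff
    have hDS : D ≤ (S : Subgroup G) := hDB.trans a.wc.le
    have h3 := hn D (S.isPGroup'.to_le hDS) (hDS.trans hYS) hoff.sq hoff.comm hoff.ne
    exact absurd (FFThm.relIndex_le_iff.1 hoff.le) (not_le.2 h3)
  rcases hm with ⟨-, A, hA, h1, h2, -⟩ | ⟨hnn, -, F, hF, h1, h2, -⟩
  · exact fin A h1 (offM_of_opt hA (cl_cent f.Yz) (f.Y_le a) (key A h1 h2))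
  · have h := root_LH (f.SH a) f.Yz a.ZY hnn
    refine fin _ h1 (off_of hG hOff h hF (h1.trans a.wc.le) ((f.Y_le a).trans (f.cl_le_V' a hnn)) (f.Y_low a)
      (key _ h1 h2))

/-- **An optimal offender `A ≤ B` of `⟨V^⟨S,X⟩⟩` with `A ≰ O₂(X)`.** -/
theorem exists_optY_of (hff : ¬ NotFF (cl (VB Y B) ((S : Subgroup G) ⊔ X))) :
    ∃ A, Opt (cl (VB Y B) ((S : Subgroup G) ⊔ X)) A ∧ A ≤ B ∧ ¬ A ≤ o2 X := by
  set R := cl (VB Y B) ((S : Subgroup G) ⊔ X) with hR
  have hRn : (S : Subgroup G) ⊔ X ≤ normalizer (R : Set G) := le_normalizer_cl _ _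
  have hRS : (S : Subgroup G) ≤ normalizer (R : Set G) := le_sup_left.trans hRn
  obtain ⟨A0, hA0⟩ := exists_opt hff
  obtain ⟨n, hn, hnS⟩ := FFThm.exists_conj_le S hRS hA0.pg hA0.norm
  have hB : ∀ D, Opt R D → D ≤ (S : Subgroup G) → D ≤ B := fun D hD hDS =>
    (le_inf hDS (f.max_le a hD.toOk hD.max hDS)).trans a.cs.le
  by_contra hcon
  push Not at hcon
  set K : Subgroup G := sSup {D | Opt R D ∧ D ≤ (S : Subgroup G)} with hK
  have hKB : K ≤ B := sSup_le fun D hD => hB D hD.1 hD.2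
  have hKX : K ≤ o2 X := sSup_le fun D hD => hcon D hD.1 (hB D hD.1 hD.2)
  have hKn : (S : Subgroup G) ⊔ X ≤ normalizer (K : Set G) := by
    have h1 : ∀ g ∈ (S : Subgroup G) ⊔ X, (∀ D, Opt R D → D ≤ (S : Subgroup G) → cj g D ≤ (S : Subgroup G)) →
        g ∈ normalizer (K : Set G) := by
      intro g hg h1
      refine mem_normalizer_of_map_le ?_
      change cj g K ≤ K
      rw [hK, cj_sSup]
      refine iSup_le fun D => ?_
      exact le_sSup (a := cj g D) ⟨D.2.1.cj (hRn hg), h1 D D.2.1 D.2.2⟩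
    refine sup_le (fun s hs => h1 s (mem_sup_left hs) fun D _ hDS => ?_)
      (fun x hx => h1 x (mem_sup_right hx) fun D hD hDS => ?_)
    · have h2 := cj_mono s hDS
      rwa [cj_eq_of_mem_normalizer (Subgroup.le_normalizer hs)] at h2
    · have h2 := cj_mono x (hcon D hD (hB D hD hDS))
      rw [cj_eq_of_mem_normalizer (le_normalizer_o2 _ hx)] at h2
      exact h2.trans ((o2_le_syl f.syl).trans f.TS)
  have hKV : K ≤ centralizer (VB Y B : Set G) := hKB.trans (by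
    have := a.cs
    intro b hb
    rw [← this] at hb
    exact hb.2)
  have hKY : K ≤ centralizer (R : Set G) := by
    refine cent_symm (cl_le fun x hx => ?_)
    have h1 := cj_cent (g := x) (cent_symm hKV)
    rwa [cj_eq_of_mem_normalizer (hKn hx)] at h1
  have h2 : cj n A0 ∈ {D | Opt R D ∧ D ≤ (S : Subgroup G)} := ⟨hA0.cj hn, hnS⟩
  exact (hA0.cj hn).ne ((le_sSup h2).trans hKY)

/-- **(C2)**: two noncentral chief factors of `X` in `⟨V^X⟩`. -/
theorem two_of (fl : Fl S (VB Y B) F T) (p : Par (VB Y B) F T X)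
    (hA : FFBr.AStmt.{u}) (hFF : FFThm.Stmt.{u}) (hG : IsCharacteristicTwoType G)
    (hff : ¬ NotFF (cl (VB Y B) ((S : Subgroup G) ⊔ X))) :
    Two (VB Y B) X := by
  by_contra hX
  have h := pan fl a.lines p fun g hg => Alpha.ti hG a.lines g hg
  set V := VB Y B with hV
  set R := cl V ((S : Subgroup G) ⊔ X) with hR
  obtain ⟨A, hAo, hAB, hAX⟩ := exists_optY_of f a hff
  have hAT : A ≤ T := hAB.trans f.BT
  have hUY : cl V X ≤ R := Fr.U_le_Y
  have hYc : R ≤ centralizer (R : Set G) := f.Y_comm a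
  have hU0Y : (⁅cl V X, oddGen X⁆ : Subgroup G) ≤ R := Pan.U0_le.trans hUY
  have hne : ¬ A ≤ centralizer ((⁅cl V X, oddGen X⁆ : Subgroup G) : Set G) := fun h0 =>
    hAX (h.le_o2_of_cent Pan.X_norm_U0 h.U0_not_cent hAo.pg (hAT.trans f.syl.1) h0)
  have hoff := offM_of_max hAo.toOk hAo.max hYc hU0Y hne
  obtain ⟨y, hy, hyT, hyO⟩ := h.exists_fix hX (K0.noOv hA (fl.sylX p) (fl.isMinPar a.lines p))
    (K0.fullOff hA (fl.sylX p) (fl.isMinPar a.lines p)) hAT hAX
    (fun x hx => centralizer_le hUY (hAo.sq x hx))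
    (fun x hx z hz => centralizer_le hUY (hAo.comm x hx z hz)) (FFThm.relIndex_le_iff.1 hoff.le)
  refine hyO (Exit.Holo.cen_mod hFF (S := (S : Subgroup G)) (T := T) (X := X) (Y := R) (V := V) (A := A)
    S.isPGroup' (le_sup_left.trans (le_normalizer_cl _ _)) (le_sup_right.trans (le_normalizer_cl _ _)) hYc
    (f.Y_sq a) f.TS f.syl f.mp (le_cl _ _) ?_ ?_ hAT hAo.toOk hAo.max hAX ?_ ⟨hU0Y hy, hyT⟩)
  · rw [a.cs]; exact f.BT
  · exact fun D hD hok hm => f.max_le a hok hm hD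
  · exact f.XZ.trans (centralizer_le (f.Y_inf_cent a))

end fr

/-! ### at a member of the chain -/

section stage

theorem S_ne (hne : zc (S : Subgroup G) ≠ ⊥) : (S : Subgroup G) ≠ ⊥ := fun h0 => hne (by
  rw [eq_bot_iff]
  intro x hx
  have h1 := (Cfsg.Agent.ZN.ChoiceBase.mem_zc.1 hx).1
  rwa [h0] at h1)

/-- `V(L) ≤ O₂(C_G(Z))` -/
theorem Stage.low_V (h : Stage S Y L) (hc : IsCharacteristicTwoType G) (hne : zc (S : Subgroup G) ≠ ⊥) :
    VL (S : Subgroup G) Y L ≤ o2 (centralizer (zc (S : Subgroup G) : Set G)) := h.geo_low_V hc hne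

theorem Stage.adm (h : Stage S Y L) (hc : IsCharacteristicTwoType G) (hne : zc (S : Subgroup G) ≠ ⊥) :
    Adm S Y L (WH (S : Subgroup G) Y L) := Adm.of_root h.toRoot (h.low_V hc hne)

variable (h : Stage S Y L) (hsd : Seed S Y L) (hc : IsCharacteristicTwoType G) (hne : zc (S : Subgroup G) ≠ ⊥)
  (f : Fl S (VL (S : Subgroup G) Y L) F T) (hZ : zc (S : Subgroup G) ≤ F)
  (p : Par (VL (S : Subgroup G) Y L) F T X)
include h hsd hc hne f hZ p

omit hsd in
/-- `H = ⟨M(L), X⟩` is local. -/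
theorem Stage.isLoc : IsLoc (S : Subgroup G) (nx (S : Subgroup G) Y L X) := by
  obtain ⟨R, hR, hR2, h1, h2⟩ := h.loc hc hne f hZ p
  exact MinPar.isLoc_of_le_normalizer S (h.S_le.trans le_sup_left) hR2 hR (sup_le h1 h2)

/-- The frame for a panel of `V(L)`. -/
theorem Stage.fr : Fr S Y (WH (S : Subgroup G) Y L) (nx (S : Subgroup G) Y L X) X T := by
  have hloc := h.isLoc hc hne f hZ p
  have hQ := f.Q0_le
  rw [h.toRoot.cs_V] at hQ
  exact
    { NB := le_sup_left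
      XH := le_sup_right
      gen := le_rfl
      char2 := hloc.char2 S hc
      Yz := hsd.le _ hloc (h.L_le.trans Step.ML_le)
      TS := f.T_le
      BT := hQ
      syl := f.sylX p
      mp := f.isMinPar (h.lines hc hne) p
      XZ := p.le.trans (centralizer_le hZ)
      nle := p.nle }

/-- `⟨V^⟨S,X⟩⟩` is FF at the last member. -/
theorem Stage.Y_ff (hl : ¬ NotFF (cl Y (nx (S : Subgroup G) Y L X)) ∨
      ¬ cl Y (nx (S : Subgroup G) Y L X) ≤ o2 (centralizer (zc (S : Subgroup G) : Set G))) :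
    ¬ NotFF (cl (VL (S : Subgroup G) Y L) ((S : Subgroup G) ⊔ X)) :=
  Y_ff_of (h.fr hsd hc hne f hZ p) (h.adm hc hne) hc (Final.stmtOff G)
    (main_of (h.fr hsd hc hne f hZ p) (h.adm hc hne) hc (Final.stmtOff G) (S_ne hne) hl)

/-- an optimal offender of `⟨V^⟨S,X⟩⟩` -/
theorem Stage.exists_optY (hl : ¬ NotFF (cl Y (nx (S : Subgroup G) Y L X)) ∨
      ¬ cl Y (nx (S : Subgroup G) Y L X) ≤ o2 (centralizer (zc (S : Subgroup G) : Set G))) :
    ∃ A, Opt (cl (VL (S : Subgroup G) Y L) ((S : Subgroup G) ⊔ X)) A ∧ A ≤ WH (S : Subgroup G) Y L ∧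
      ¬ A ≤ o2 X :=
  exists_optY_of (h.fr hsd hc hne f hZ p) (h.adm hc hne) (h.Y_ff hsd hc hne f hZ p hl)

/-- **(C2)** at the last member -/
theorem Stage.two (hl : ¬ NotFF (cl Y (nx (S : Subgroup G) Y L X)) ∨
      ¬ cl Y (nx (S : Subgroup G) Y L X) ≤ o2 (centralizer (zc (S : Subgroup G) : Set G))) :
    Two (VL (S : Subgroup G) Y L) X :=
  two_of (h.fr hsd hc hne f hZ p) (h.adm hc hne) f p FFBr.aStmt FFBr.ffthm hc (h.Y_ff hsd hc hne f hZ p hl)

/-- **(γ)**: an optimal offender of `V_H` in `W(L)`, not in `O₂(X)` -/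
theorem Stage.exists_opt (hff : ¬ NotFF (cl Y (nx (S : Subgroup G) Y L X))) :
    ∃ A, Opt (cl Y (nx (S : Subgroup G) Y L X)) A ∧ A ≤ WH (S : Subgroup G) Y L ∧ ¬ A ≤ o2 X := by
  obtain ⟨A, hA, h1, h2, -⟩ := (h.fr hsd hc hne f hZ p).gamma (h.adm hc hne) hff
  exact ⟨A, hA, h1, h2⟩

end stage

end Cfsg.Agent.Omega.NO3b.Seed

end

-- merged: Cfsg.Agent.Mrg.Omega.NO3b.Seed.Red
section

section


/-!
# The chain with a seed `Y`: `O₂(M / C_M(V)) = 1` (#20856 (1))

`Root S Y L`, `M = M(L)`, `V = V(L) = ⟨Y^M⟩`.  Suppose `P*(S) ⊆ M` and every weakly closed subgroup of `S` which lies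
in `O₂(P')` for all `P' ∈ P*(S)` centralises `Y` (`Core`).

* `red_grp` : a normal subgroup `N` of `M` which acts as a 2-group on `V` centralises `V`;
* `red` : `Red (im h M) (ad hc V)` (`Exit/LocBar.lean`).
-/

set_option autoImplicit false
set_option linter.unusedSectionVars false

namespace Cfsg.Agent.Omega.NO3b.Seed

open Subgroup Cfsg
open Cfsg.Agent.ZN (o2 zc zl jj zj)
open Cfsg.Agent.ZN.ChoiceBase hiding mem_zc
open Cfsg.Agent.ZN.ChoiceSit (Syl o2_le_syl syl_not_dvd)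
open Cfsg.Agent.MinSimple.EmptyTI (syl_of_le)
open Cfsg.Agent.Omega.MinPar Cfsg.Agent.Omega.Frame Cfsg.Agent.Omega.FrameNOFF
open Cfsg.Agent.Omega.NO3b.EZero (NotFF Par oddGen_sup_syl cl le_cl cj_le_cl cl_le le_normalizer_cl cent_symm)
open Cfsg.Agent.Omega.NO3b.Wc (WC StmtOff)
open Cfsg.Agent.Omega.NO3b.Chain (le_normalizer_inf le_normalizer_centralizer oddGen_le_or)
open Cfsg.Agent.Omega.NO3b.Exit.Bridge
open Cfsg.Agent.Omega.NO3b.Exit.TDat (Red)
open Cfsg.Agent.Omega.NO3b.Exit.LocBar (pr_mem_im)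
open Cfsg.Agent.Omega.FFBr (XX pr im mem_im)
open Cfsg.Agent.MinSimple.VModule (oddGen zc_comm zc_sq le_normalizer_o2 normalizer_le_normalizer_zc)

open scoped Pointwise

universe u

variable {G : Type u} [Group G] [Finite G] {S : Sylow 2 G} {Y P L : Subgroup G}

/-- Every weakly closed subgroup of `S` which lies in `O₂(P')` for all `P' ∈ P*(S)` centralises `Y`. -/
def Core (S Y : Subgroup G) : Prop :=
  ∀ K : Subgroup G, WC S K → (∀ R, IsParS S R → K ≤ o2 R) → K ≤ centralizer (Y : Set G)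

/-- a normal subgroup of `M(L)` which acts as a 2-group on `V(L)`, centralises `V(L)`: the case `C_M(V) ≤ N` -/
theorem red_aux (h : Root S Y L) (hc : IsCharacteristicTwoType G) (hK : Core (S : Subgroup G) Y)
    (hpar : ∀ R, IsParS (S : Subgroup G) R → R ≤ ML (S : Subgroup G) Y L) {N : Subgroup G}
    (hN : N ≤ ML (S : Subgroup G) Y L) (hNn : ML (S : Subgroup G) Y L ≤ normalizer (N : Set G))
    (hC : ML (S : Subgroup G) Y L ⊓ centralizer (VL (S : Subgroup G) Y L : Set G) ≤ N)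
    (h2 : ∀ n ∈ N, ∃ j : ℕ, n ^ 2 ^ j ∈ centralizer (VL (S : Subgroup G) Y L : Set G)) :
    N ≤ centralizer (VL (S : Subgroup G) Y L : Set G) := by
  have : Fact (Nat.Prime 2) := ⟨Nat.prime_two⟩
  have hSM : (S : Subgroup G) ≤ ML (S : Subgroup G) Y L := h.S_le
  -- `S ∩ N` is weakly closed
  have hW : WH (S : Subgroup G) Y L ≤ (S : Subgroup G) ⊓ N :=
    le_inf (WH_le_S _ _ _) ((le_inf ((WH_le_S _ _ _).trans hSM) h.WH_cent).trans hC)
  have hwc : WC (S : Subgroup G) ((S : Subgroup G) ⊓ N) := by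
    refine ⟨inf_le_left, fun g hg => ?_⟩
    have hgM : g ∈ ML (S : Subgroup G) Y L := mem_ML_of_le ((cj_mono g hW).trans hg)
    have h1 : cj g ((S : Subgroup G) ⊓ N) ≤ (S : Subgroup G) ⊓ N := by
      refine le_inf hg ?_
      rw [cj_inf, cj_eq_of_mem_normalizer (hNn hgM)]
      exact inf_le_right
    exact Subgroup.eq_of_le_of_card_ge h1 (card_cj _ _).ge
  -- `S ∩ N ≤ O₂(P')`
  have hle : ∀ R, IsParS (S : Subgroup G) R → (S : Subgroup G) ⊓ N ≤ o2 R := by
    intro R hR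
    rcases oddGen_le_or hc hR.toIsPar ((hpar R hR).trans hNn) with h1 | h1
    · exfalso
      apply hR.not_zc
      have hodd : oddGen R ≤ centralizer (VL (S : Subgroup G) Y L : Set G) := by
        rw [oddGen, closure_le]
        rintro x ⟨hx, ho⟩
        obtain ⟨j, hj⟩ := h2 x (h1 (MinSimple.VModule.mem_oddGen hx ho))
        have hco : Nat.Coprime (2 ^ j) (orderOf x) := Nat.Coprime.pow_left _ ((Nat.coprime_two_left).2 ho)
        have h3 : x ∈ zpowers (x ^ 2 ^ j) := by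
          rw [mem_zpowers_iff]
          obtain ⟨k, hk⟩ := exists_pow_eq_self_of_coprime hco
          exact ⟨k, by rw [zpow_natCast]; exact hk⟩
        exact (zpowers_le.2 hj) h3
      rw [← oddGen_sup_syl (syl_of_le hR.le)]
      refine sup_le ?_ (Subgroup.le_normalizer.trans (normalizer_le_normalizer_zc _))
      exact (hodd.trans (centralizer_le h.zc_le_V)).trans (centralizer_le_normalizer _)
    · have h3 := IsParS.inf_centralizer S hc hR
      rw [← h3]
      exact le_inf inf_le_left h1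
  have hSY : (S : Subgroup G) ⊓ N ≤ centralizer (Y : Set G) := hK _ hwc hle
  -- `N` centralises `Y`
  have hNY : N ≤ centralizer (Y : Set G) := by
    set C : Subgroup G := ML (S : Subgroup G) Y L ⊓ centralizer (VL (S : Subgroup G) Y L : Set G) with hCdef
    have hCn : (C.subgroupOf N).Normal := normal_subgroupOf_of_le_normalizer (hN.trans
      (le_normalizer_inf Subgroup.le_normalizer (le_normalizer_centralizer (ML_le_norm_V _ _ _))))
    have hq : IsPGroup 2 (N ⧸ C.subgroupOf N) := by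
      intro q
      induction q using QuotientGroup.induction_on with | _ x =>
      obtain ⟨j, hj⟩ := h2 x x.2
      refine ⟨j, ?_⟩
      rw [← QuotientGroup.mk_pow, QuotientGroup.eq_one_iff, mem_subgroupOf]
      exact ⟨Subgroup.pow_mem _ (hN x.2) _, hj⟩
    obtain ⟨k, hk⟩ := IsPGroup.iff_card.1 hq
    have hCi : C.relIndex N = 2 ^ k := hk
    have hsy : Syl ((S : Subgroup G) ⊓ N) N := Cfsg.Agent.Omega.NO3S.Tens.syl_inf (syl_of_le hSM) hN hNn
    have h4 : ¬ 2 ∣ ((S : Subgroup G) ⊓ N).relIndex N := syl_not_dvd hsy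
    set St : Subgroup G := N ⊓ centralizer (Y : Set G) with hSt
    have h5 : St.relIndex N ∣ ((S : Subgroup G) ⊓ N).relIndex N :=
      relIndex_dvd_of_le_left N (le_inf inf_le_right hSY)
    have h6 : St.relIndex N ∣ 2 ^ k := by
      rw [← hCi]
      exact relIndex_dvd_of_le_left N (le_inf hC (inf_le_right.trans (centralizer_le (Y_le_V _ _ _))))
    obtain ⟨i, hi, h7⟩ := (Nat.dvd_prime_pow Nat.prime_two).1 h6
    have h8 : i = 0 := by
      by_contra h0
      apply h4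
      refine dvd_trans ?_ h5
      rw [h7]
      exact dvd_pow_self 2 h0
    rw [h8, pow_zero] at h7
    exact (relIndex_eq_one.1 h7).trans inf_le_right
  -- `V = ⟨Y^M⟩`
  refine cent_symm ?_
  exact cl_le' (cent_symm hNY) (le_normalizer_centralizer hNn)

/-- **(RED)** a normal subgroup of `M(L)` which acts as a 2-group on `V(L)`, centralises `V(L)`. -/
theorem red_grp (h : Root S Y L) (hc : IsCharacteristicTwoType G) (hK : Core (S : Subgroup G) Y)
    (hpar : ∀ R, IsParS (S : Subgroup G) R → R ≤ ML (S : Subgroup G) Y L) {N : Subgroup G}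
    (hN : N ≤ ML (S : Subgroup G) Y L) (hNn : ML (S : Subgroup G) Y L ≤ normalizer (N : Set G))
    (h2 : ∀ n ∈ N, ∃ j : ℕ, n ^ 2 ^ j ∈ centralizer (VL (S : Subgroup G) Y L : Set G)) :
    N ≤ centralizer (VL (S : Subgroup G) Y L : Set G) := by
  set C : Subgroup G := ML (S : Subgroup G) Y L ⊓ centralizer (VL (S : Subgroup G) Y L : Set G) with hCdef
  have hCn : ML (S : Subgroup G) Y L ≤ normalizer (C : Set G) :=
    le_normalizer_inf Subgroup.le_normalizer (le_normalizer_centralizer (ML_le_norm_V _ _ _))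
  have h1 : C ⊔ N ≤ centralizer (VL (S : Subgroup G) Y L : Set G) := by
    refine red_aux h hc hK hpar (sup_le inf_le_left hN) ?_ le_sup_left ?_
    · exact fun m hm => mem_normalizer_iff_cj.2 (by
        change Subgroup.map _ _ = _
        rw [Subgroup.map_sup]
        change cj m C ⊔ cj m N = _
        rw [cj_eq_of_mem_normalizer (hCn hm), cj_eq_of_mem_normalizer (hNn hm)])
    · intro x hx
      have hNC : N ≤ normalizer (C : Set G) := hN.trans hCn
      have hx' : x ∈ (C : Set G) * (N : Set G) := by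
        rw [← coe_mul_of_right_le_normalizer_left C N hNC]
        exact hx
      obtain ⟨c, hcC, n, hn, rfl⟩ := Set.mem_mul.1 hx'
      obtain ⟨j, hj⟩ := h2 n hn
      refine ⟨j, ?_⟩
      have key : ∀ i : ℕ, ∃ c' ∈ C, (c * n) ^ i = c' * n ^ i := by
        intro i
        induction i with
        | zero => exact ⟨1, one_mem _, by simp⟩
        | succ i ih =>
          obtain ⟨c', hc', e⟩ := ih
          refine ⟨c' * (n ^ i * c * (n ^ i)⁻¹), mul_mem hc' ?_, ?_⟩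
          · exact (mem_normalizer_iff.1 (hNC (pow_mem hn i)) c).1 hcC
          · rw [pow_succ, e, pow_succ]; group
      obtain ⟨c', hc', e⟩ := key (2 ^ j)
      rw [e]
      exact mul_mem hc'.2 hj
  exact le_sup_right.trans h1

/-- **(RED)** in `Exit/LocBar.lean` form. -/
theorem red {U H : Subgroup G} (hN : H ≤ normalizer (U : Set G)) (hU : U ≤ centralizer (U : Set G))
    (h : Root S Y L) (hc : IsCharacteristicTwoType G) (hK : Core (S : Subgroup G) Y)
    (hpar : ∀ R, IsParS (S : Subgroup G) R → R ≤ ML (S : Subgroup G) Y L)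
    (hM : ML (S : Subgroup G) Y L ≤ H) (hVU : VL (S : Subgroup G) Y L ≤ U) :
    Red (im hN (ML (S : Subgroup G) Y L)) (ad hU (VL (S : Subgroup G) Y L)) := by
  intro N hNM hNn h2 n hn v hv
  -- the preimage in `M`
  set N' : Subgroup G := ML (S : Subgroup G) Y L ⊓ Chain.pre hN N with hN'
  have h1 : N' ≤ centralizer (VL (S : Subgroup G) Y L : Set G) := by
    refine red_grp h hc hK hpar inf_le_left ?_ ?_
    · exact le_normalizer_inf Subgroup.le_normalizer (Chain.le_normalizer_pre hN hM hNn)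
    · rintro x ⟨hxM, hxN⟩
      obtain ⟨hxH, hxN'⟩ := (Chain.mem_pre hN).1 hxN
      obtain ⟨j, hj⟩ := h2 _ hxN'
      refine ⟨j, ?_⟩
      rw [mem_centralizer_iff]
      intro w hw
      have h3 := hj (mk hU (hVU hw)) hw
      rw [← map_pow] at h3
      exact ((pr_smul_eq_iff' hN).1 h3).symm
  obtain ⟨a, ha, rfl⟩ := mem_im.1 (hNM hn)
  refine (pr_smul_eq_iff' hN).2 ?_
  exact mem_centralizer_iff.1 (h1 ⟨ha, (Chain.mem_pre hN).2 ⟨hM ha, hn⟩⟩) _ hv |>.symm

end Cfsg.Agent.Omega.NO3b.Seed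

end

section


/-!
# The case (G) of the cut of GammaFF: the chain from `X₀ = Ω₁(Z(O₂(P)))` (#20856 (0), (1))

`CaseG S P` (`NO3S/Level/Cut.lean`), `Q = O₂(P)`, `Y = X₀ = Ω₁(Z(Q))`, `M₀ = N_G(Q)`.

* `CaseG.seed`, `CaseG.stage` : `Seed S Y P`, `Stage S Y P`; `CaseG.WH_eq`, `ML_eq`, `VL_eq` : `W(P) = Q`,
  `M(P) = M₀`, `V(P) = X₀`;
* `CaseG.core`, `CaseG.par_le` : the hypotheses of `Seed/Red.lean` along the chain; `CaseG.red`;
* `CaseG.cs_zl` : `C_S(V_P) = Q` centralises `X₀` (hypothesis of `oddGen_le_of_not`);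
* `CaseG.cent_eq` : (0) `C_G(V_P) = C_G(X₀)`;
* `CaseG.geo` : `ClosedPt.Geo S Z X₀ M₀`;
* `CaseG.exists_last` : the last member of the chain: every panel over `Z` has `⟨X₀^H⟩` FF or not in `O₂(C_G(Z))`.
-/

set_option autoImplicit false
set_option linter.unusedSectionVars false

namespace Cfsg.Agent.Omega.NO3S.Level

open Subgroup Cfsg Cfsg.Agent.ZN Cfsg.Agent.ZN.ChoiceBase Cfsg.Agent.Omega.MinPar Cfsg.Agent.Omega.Frame
open Cfsg.Agent.Omega.FrameNOFF (CZ)
open Cfsg.Agent.Omega.FFThm (OffM ElemM NoOverM)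
open Cfsg.Agent.Omega.NO3b.EZero (cl le_cl cj_le_cl cl_le le_normalizer_cl cent_symm)
open Cfsg.Agent.Omega.NO3b.Wc (WC)
open Cfsg.Agent.Omega.NO3b

universe u

variable {G : Type u} [Group G] [Finite G] {S : Sylow 2 G} {P L : Subgroup G}

namespace CaseG

variable (h : CaseG S P)
include h

theorem seed : Seed.Seed S (zc (o2 P)) P := Seed.seed_of h.ctx.char2 h.pss.par.isLoc

theorem cl_eq : cl (zc (o2 P)) P = zc (o2 P) :=
  Seed.cl_eq ((MinSimple.VModule.le_normalizer_o2 P).trans (MinSimple.VModule.normalizer_le_normalizer_zc _))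

/-- `C_S(X₀) = Q` -/
theorem cs : (S : Subgroup G) ⊓ centralizer (zc (o2 P) : Set G) = o2 P := by
  have h1 := cs_X0 h.ctx.char2 h.hj
  rwa [h.X0_eq, h.K0_eq] at h1

theorem nffY : EZero.NotFF (zc (o2 P)) := by
  have h1 := h.toW0.nff
  rwa [h.X0_eq] at h1

theorem stage : Seed.Stage S (zc (o2 P)) P where
  le := h.pss.par.isLoc.le
  ZY := h.seed.ZY
  comm := by rw [h.cl_eq, ← h.X0_eq]; exact X0_comm _
  sq := by rw [h.cl_eq, ← h.X0_eq]; exact X0_sq _
  nff := by rw [h.cl_eq]; exact h.nffY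
  cs := by rw [h.cl_eq, h.cs]; exact MinSimple.VModule.le_normalizer_o2 P
  low := by rw [h.cl_eq]; exact h.linesG.low

theorem QL_eq : Seed.QL (S : Subgroup G) (zc (o2 P)) P = o2 P := by rw [Seed.QL, h.cl_eq, h.cs]

theorem WH_eq : Seed.WH (S : Subgroup G) (zc (o2 P)) P = o2 P := by
  rw [Seed.Root.WH_eq (by rw [h.QL_eq]; exact h.wc), h.QL_eq]

theorem ML_eq : Seed.ML (S : Subgroup G) (zc (o2 P)) P = M0 (S : Subgroup G) := by
  rw [Seed.ML, h.WH_eq, h.M0_eq]

theorem VL_eq : Seed.VL (S : Subgroup G) (zc (o2 P)) P = zc (o2 P) := by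
  rw [Seed.VL, Seed.ML, h.WH_eq]
  exact Seed.cl_eq (MinSimple.VModule.normalizer_le_normalizer_zc _)

/-- Weakly closed subgroups of `S` in all `O₂(P')` centralise `X₀`. -/
theorem core : Seed.Core (S : Subgroup G) (zc (o2 P)) := fun K hK hK2 => by
  have h1 := le_K0 hK hK2
  rw [h.K0_eq] at h1
  exact h1.trans (MinSimple.VModule.le_centralizer_zc _)

variable (r : Seed.Reach S (zc (o2 P)) P L)

theorem M0_le (r : Seed.Reach S (zc (o2 P)) P L) :
    M0 (S : Subgroup G) ≤ Seed.ML (S : Subgroup G) (zc (o2 P)) L := by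
  rw [← h.ML_eq]
  exact r.ML_le h.ctx.char2 h.zc_ne h.stage

/-- `P*(S) ⊆ M(L)` -/
theorem par_le (r : Seed.Reach S (zc (o2 P)) P L) (R : Subgroup G) (hR : IsParS (S : Subgroup G) R) :
    R ≤ Seed.ML (S : Subgroup G) (zc (o2 P)) L := (Level.par_le hR).trans (h.M0_le r)

/-- **(RED)** -/
theorem red {U H : Subgroup G} (hN : H ≤ normalizer (U : Set G)) (hU : U ≤ centralizer (U : Set G))
    (r : Seed.Reach S (zc (o2 P)) P L) (hM : Seed.ML (S : Subgroup G) (zc (o2 P)) L ≤ H)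
    (hVU : Seed.VL (S : Subgroup G) (zc (o2 P)) L ≤ U) :
    Exit.TDat.Red (FFBr.im hN (Seed.ML (S : Subgroup G) (zc (o2 P)) L))
      (Exit.Bridge.ad hU (Seed.VL (S : Subgroup G) (zc (o2 P)) L)) :=
  Seed.red hN hU (r.stage h.ctx.char2 h.zc_ne h.stage).toRoot h.ctx.char2 h.core (h.par_le r) hM hVU

/-- `C_S(V_P) = Q` -/
theorem cs_zl : (S : Subgroup G) ⊓ centralizer (zl (S : Subgroup G) P : Set G) = o2 P :=
  IsParS.inf_centralizer S h.ctx.char2 h.pss.par

theorem cs_zl_le : (S : Subgroup G) ⊓ centralizer (zl (S : Subgroup G) P : Set G) ≤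
    centralizer (cl (zc (o2 P)) P : Set G) := by
  rw [h.cs_zl, h.cl_eq]
  exact MinSimple.VModule.le_centralizer_zc _

theorem zl_le : zl (S : Subgroup G) P ≤ zc (o2 P) := h.lt.le

/-- **(0)** `C_G(V_P) = C_G(X₀)` -/
theorem cent_eq : centralizer (zl (S : Subgroup G) P : Set G) = centralizer (zc (o2 P) : Set G) := by
  refine le_antisymm ?_ (centralizer_le h.zl_le)
  have h1 := h.stage.cent_le h.ctx.char2 h.zc_ne (A := zl (S : Subgroup G) P) (MinSimple.VModule.zc_le_zl _ _)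
    (h.pss.par.isLoc.le.trans (MinSimple.VModule.le_normalizer_zl _ _)) (by
      rw [h.cs_zl, h.VL_eq]
      exact MinSimple.VModule.le_centralizer_zc _)
  rwa [h.VL_eq] at h1

/-- `N_G(V_P) ≤ N_G(X₀)` -/
theorem norm_zl_le : normalizer (zl (S : Subgroup G) P : Set G) ≤ normalizer (zc (o2 P) : Set G) := by
  intro n hn
  have hSV : (S : Subgroup G) ≤ normalizer (zl (S : Subgroup G) P : Set G) :=
    h.pss.par.isLoc.le.trans (MinSimple.VModule.le_normalizer_zl _ _)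
  obtain ⟨c, hc, hcn⟩ := Exit.frattini hSV hn
  rw [h.cs_zl] at hcn
  rw [h.cent_eq] at hc
  have h1 : c⁻¹ * n ∈ normalizer (zc (o2 P) : Set G) := MinSimple.VModule.normalizer_le_normalizer_zc _ hcn
  have h2 := mul_mem (centralizer_le_normalizer _ hc) h1
  rwa [mul_inv_cancel_left] at h2

/-- `(M₀, X₀)` is a pair for #19499. -/
theorem geo : ClosedPt.Geo (S : Subgroup G) (zc (S : Subgroup G)) (zc (o2 P)) (M0 (S : Subgroup G)) := by
  have h1 := h.stage.geoV h.ctx.char2 h.zc_ne (by rw [h.ML_eq]; exact h.nonLoc_M0)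
  rwa [h.VL_eq, h.ML_eq] at h1

/-- `⟨M(L), C_G(Z)⟩` is not local -/
theorem nonLoc (r : Seed.Reach S (zc (o2 P)) P L) :
    NonLoc (Seed.ML (S : Subgroup G) (zc (o2 P)) L) (CZ (S : Subgroup G)) :=
  fun U hU h1 h2 => h.nonLoc_M0 U hU ((h.M0_le r).trans h1) h2

/-- `(M(L), V(L))` is a pair for #19499. -/
theorem geo_of (r : Seed.Reach S (zc (o2 P)) P L) : ClosedPt.Geo (S : Subgroup G) (zc (S : Subgroup G))
    (Seed.VL (S : Subgroup G) (zc (o2 P)) L) (Seed.ML (S : Subgroup G) (zc (o2 P)) L) :=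
  (r.stage h.ctx.char2 h.zc_ne h.stage).geoV h.ctx.char2 h.zc_ne (h.nonLoc r)

/-- **The last member of the chain**: there are panels over `Z`; for each of them `⟨X₀^H⟩` is FF, or is not in
`O₂(C_G(Z))`. -/
theorem exists_last : ∃ L, Seed.Reach S (zc (o2 P)) P L ∧ Seed.Stage S (zc (o2 P)) L ∧
    Seed.Seed S (zc (o2 P)) L ∧ (∀ F T X, ¬ Seed.Step S (zc (o2 P)) L F T X) ∧
    (∃ F T X, Alpha.Fl S (Seed.VL (S : Subgroup G) (zc (o2 P)) L) F T ∧ zc (S : Subgroup G) ≤ F ∧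
      EZero.Par (Seed.VL (S : Subgroup G) (zc (o2 P)) L) F T X) ∧
    ∀ F T X, Alpha.Fl S (Seed.VL (S : Subgroup G) (zc (o2 P)) L) F T → zc (S : Subgroup G) ≤ F →
      EZero.Par (Seed.VL (S : Subgroup G) (zc (o2 P)) L) F T X →
      ¬ EZero.NotFF (cl (zc (o2 P)) (Seed.nx (S : Subgroup G) (zc (o2 P)) L X)) ∨
      ¬ cl (zc (o2 P)) (Seed.nx (S : Subgroup G) (zc (o2 P)) L X) ≤ o2 (centralizer (zc (S : Subgroup G) : Set G)) := by
  obtain ⟨L, r, hl⟩ := Seed.exists_last h.ctx.char2 h.zc_ne h.stage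
  have hs := r.stage h.ctx.char2 h.zc_ne h.stage
  have hsd := r.seed h.ctx.char2 h.zc_ne h.stage h.seed
  have hPL := r.le h.ctx.char2 h.zc_ne h.stage
  exact ⟨L, r, hs, hsd, hl, hs.exists_panel h.ctx.char2 h.zc_ne (hs.toRoot.nle hPL h.pss.nonLoc h.zc_ne),
    fun F T X f hZ p => Seed.last_or h.ctx.char2 h.zc_ne hsd hs hl f hZ p⟩

end CaseG

end Cfsg.Agent.Omega.NO3S.Level

end

end

-- merged: Cfsg.Agent.Mrg.Omega.NO3b.Seed.Gam
section

section


/-!
# The chain with a seed `Y`: case (γ) at the last member (#20856 (2); helper235's `Chain/Gam.lean`)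

`L` a member of the chain, `(F, T, X)` a panel of `V = V(L)`, `H = ⟨M(L), X⟩`, `U = ⟨Y^H⟩`, `Γ = XX hN` the group
induced by `H` on `U`.

* `Stage.sit` : the panel acts on `U` (`Bridge.Sit`);
* `Stage.mx_of` : the M-side frame `MX` for the images of `M(L)`, `X`, `W(L)`, `A` for every line `x V` moved by the
  optimal offender `A ≤ W(L)`, if `O₂(M / C_M(V)) = 1` (`Seed/Red.lean`);
* `Stage.mx`, `Stage.exists_mx` : the same under `Core S Y` and `P*(S) ⊆ M(L)`;
* `SM_bar`, `syl_bar` : fields of `Blk`.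
-/

set_option autoImplicit false
set_option linter.unusedSectionVars false

namespace Cfsg.Agent.Omega.NO3b.Seed

open Subgroup Cfsg
open Cfsg.Agent.ZN (o2 zc zl jj zj)
open Cfsg.Agent.ZN.ChoiceBase hiding mem_zc
open Cfsg.Agent.ZN.ChoiceSit (Syl o2_le_syl syl_not_dvd)
open Cfsg.Agent.MinSimple.EmptyTI (syl_of_le)
open Cfsg.Agent.Omega.MinPar (IsParS)
open Cfsg.Agent.Omega.NO3b.EZero (NotFF Par cl le_cl cj_le_cl cl_le le_normalizer_cl)
open Cfsg.Agent.Omega.NO3b.Alpha (Fl)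
open Cfsg.Agent.Omega.NO3b.NoEmp (Lines)
open Cfsg.Agent.Omega.NOThreeL.Star (Opt)
open Cfsg.Agent.Omega.NO3b.Exit.Bridge
open Cfsg.Agent.Omega.NO3b.Exit (LocBar.im_mono LocBar.im_smul LocBar.im_conj LocBar.im_fix LocBar.isPGroup_im
  LocBar.syl_im LocBar.pr_mem_im)
open Cfsg.Agent.Omega.NO3b.Exit.TDat (MX Red mx_of_tight)
open Cfsg.Agent.Omega.FFBr (XX pr im mem_im)
open Cfsg.Agent.Omega.FF.Basic (fx)
open Cfsg.Agent.Omega.NO3b.Exit.TT (nf)
open Cfsg.Agent.MinSimple.VModule (le_normalizer_o2 o2_le oddGen)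
open scoped Pointwise

universe u

variable {G : Type u} [Group G] {S Y L F T X : Subgroup G}

/-- `U = ⟨Y^H⟩`, `H = ⟨M(L), X⟩` -/
abbrev UU (S Y L X : Subgroup G) : Subgroup G := cl Y (nx S Y L X)

/-- `H` normalises `U` -/
theorem hN (S Y L X : Subgroup G) : nx S Y L X ≤ normalizer (UU S Y L X : Set G) := le_normalizer_cl _ _

variable [Finite G]

section stage

variable {S : Sylow 2 G} (h : Stage S Y L) (hsd : Seed S Y L) (hc : IsCharacteristicTwoType G)
  (hne : zc (S : Subgroup G) ≠ ⊥)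
  (f : Fl S (VL (S : Subgroup G) Y L) F T) (hZ : zc (S : Subgroup G) ≤ F)
  (p : Par (VL (S : Subgroup G) Y L) F T X)
include h hsd hc hne f hZ p

theorem Stage.cU : UU (S : Subgroup G) Y L X ≤ centralizer (UU (S : Subgroup G) Y L X : Set G) :=
  cl_cent (h.fr hsd hc hne f hZ p).Yz

/-- the panel acts on `U` -/
theorem Stage.sit : Sit (VL (S : Subgroup G) Y L) F T X (UU (S : Subgroup G) Y L X) :=
  Sit.of_fl hc (h.lines hc hne) f p (h.cU hsd hc hne f hZ p)
    (cl_sq (h.fr hsd hc hne f hZ p).Yz) Step.V_le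
    (Step.X_le.trans (le_normalizer_cl _ _))

/-- the M-side frame for every line moved by `A` -/
theorem Stage.mx_of {A : Subgroup G} (hA : Opt (UU (S : Subgroup G) Y L X) A) (hAW : A ≤ WH (S : Subgroup G) Y L)
    (hAX : ¬ A ≤ o2 X) (h2 : K0.Mix.Two (VL (S : Subgroup G) Y L) X)
    (hred : Red (im (hN (S : Subgroup G) Y L X) (ML (S : Subgroup G) Y L))
      (ad (h.cU hsd hc hne f hZ p) (VL (S : Subgroup G) Y L)))
    {x : ↥(im (hN (S : Subgroup G) Y L X) X)}
    (hx : ¬ imx (hN (S : Subgroup G) Y L X) X A ≤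
      nf _ (sm x (ad (h.cU hsd hc hne f hZ p) (VL (S : Subgroup G) Y L)))) :
    MX (im (hN (S : Subgroup G) Y L X) (ML (S : Subgroup G) Y L)) (im (hN (S : Subgroup G) Y L X) X)
      (im (hN (S : Subgroup G) Y L X) (WH (S : Subgroup G) Y L)) (im (hN (S : Subgroup G) Y L X) A)
      (ad (h.cU hsd hc hne f hZ p) (VL (S : Subgroup G) Y L)) (ad (h.cU hsd hc hne f hZ p) F)
      (x : XX (hN (S : Subgroup G) Y L X)) := by
  have s := h.sit hsd hc hne f hZ p
  have fr := h.fr hsd hc hne f hZ p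
  have hXH : X ≤ nx (S : Subgroup G) Y L X := Step.X_le
  have hMH : ML (S : Subgroup G) Y L ≤ nx (S : Subgroup G) Y L X := Step.ML_le
  obtain ⟨P, hP⟩ := s.exists_syl (hN (S : Subgroup G) Y L X) hXH
  have hAT : A ≤ T := hAW.trans fr.BT
  have hAXX : A ≤ X := hAT.trans s.syl.1
  have e : (imx (hN (S : Subgroup G) Y L X) X A).map (im (hN (S : Subgroup G) Y L X) X).subtype =
      im (hN (S : Subgroup G) Y L X) A := by
    unfold imx
    rw [subgroupOf_map_subtype]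
    exact inf_eq_left.2 (LocBar.im_mono _ hAXX)
  have hSM : (S : Subgroup G) ≤ ML (S : Subgroup G) Y L := h.S_le
  have key := mx_of_tight (faith (hc := s.cm) (hN (S : Subgroup G) Y L X))
    (s.datU (hN (S : Subgroup G) Y L X) hXH hP)
    (s.mbu (hN (S : Subgroup G) Y L X) hXH hA hAT hAX) (by
      intro h0
      refine s.two_ne hA hAT hAX h2 fun a ha => ?_
      have h1 : phi (hN (S : Subgroup G) Y L X) hXH ⟨a, hAXX ha.1⟩ ∈
          imx (hN (S : Subgroup G) Y L X) X A ⊓ pCore 2 ↥(im (hN (S : Subgroup G) Y L X) X) :=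
        ⟨phi_mem_imx _ hXH ha.1, (s.mem_core_iff _ hXH (hAT ha.1)).2 ha.2⟩
      rw [h0, mem_bot] at h1
      exact (phi_eq_one _ hXH).1 h1)
    (M := im (hN (S : Subgroup G) Y L X) (ML (S : Subgroup G) Y L))
    (D := im (hN (S : Subgroup G) Y L X) (WH (S : Subgroup G) Y L))
    (fun m hm v hv => LocBar.im_smul _ (ML_le_norm_V _ _ _) hm hv)
    (LocBar.im_mono _ (fr.BT.trans s.syl.1)) (by rw [e]; exact LocBar.im_mono _ hAW)
    (fun m hm d hd => LocBar.im_conj _ (by rfl) hm hd)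
    (fun d hd v hv => LocBar.im_fix _ h.WH_cent hd hv) (by
      rw [← s.core_eq (hN (S : Subgroup G) Y L X) hXH]
      unfold imx
      rw [subgroupOf_map_subtype]
      refine inf_le_left.trans (LocBar.im_mono _ ?_)
      exact (o2_le_syl s.syl).trans (f.T_le.trans hSM)) hred hx
  rwa [e] at key

/-- `O₂(M / C_M(V)) = 1` for the image `M` of `M(L)` in `XX hN`. -/
theorem Stage.red (hK : Core (S : Subgroup G) Y)
    (hpar : ∀ R, IsParS (S : Subgroup G) R → R ≤ ML (S : Subgroup G) Y L) :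
    Red (im (hN (S : Subgroup G) Y L X) (ML (S : Subgroup G) Y L))
      (ad (h.cU hsd hc hne f hZ p) (VL (S : Subgroup G) Y L)) :=
  Seed.red _ _ h.toRoot hc hK hpar Step.ML_le Step.V_le

/-- the M-side frame for every line moved by `A` -/
theorem Stage.mx (hK : Core (S : Subgroup G) Y)
    (hpar : ∀ R, IsParS (S : Subgroup G) R → R ≤ ML (S : Subgroup G) Y L)
    {A : Subgroup G} (hA : Opt (UU (S : Subgroup G) Y L X) A) (hAW : A ≤ WH (S : Subgroup G) Y L)
    (hAX : ¬ A ≤ o2 X) (h2 : K0.Mix.Two (VL (S : Subgroup G) Y L) X)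
    {x : ↥(im (hN (S : Subgroup G) Y L X) X)}
    (hx : ¬ imx (hN (S : Subgroup G) Y L X) X A ≤
      nf _ (sm x (ad (h.cU hsd hc hne f hZ p) (VL (S : Subgroup G) Y L)))) :
    MX (im (hN (S : Subgroup G) Y L X) (ML (S : Subgroup G) Y L)) (im (hN (S : Subgroup G) Y L X) X)
      (im (hN (S : Subgroup G) Y L X) (WH (S : Subgroup G) Y L)) (im (hN (S : Subgroup G) Y L X) A)
      (ad (h.cU hsd hc hne f hZ p) (VL (S : Subgroup G) Y L)) (ad (h.cU hsd hc hne f hZ p) F)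
      (x : XX (hN (S : Subgroup G) Y L X)) :=
  h.mx_of hsd hc hne f hZ p hA hAW hAX h2 (h.red hsd hc hne f hZ p hK hpar) hx

omit hZ p in
/-- **(γ)**: the M-side frame at the last member of the chain. -/
theorem Stage.exists_mx (hK : Core (S : Subgroup G) Y)
    (hpar : ∀ R, IsParS (S : Subgroup G) R → R ≤ ML (S : Subgroup G) Y L)
    (hZ : zc (S : Subgroup G) ≤ F) (p : Par (VL (S : Subgroup G) Y L) F T X)
    (hff : ¬ NotFF (UU (S : Subgroup G) Y L X)) :
    ∃ (A : Subgroup G) (x : XX (hN (S : Subgroup G) Y L X)), Opt (UU (S : Subgroup G) Y L X) A ∧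
      A ≤ WH (S : Subgroup G) Y L ∧ ¬ A ≤ o2 X ∧ x ∈ im (hN (S : Subgroup G) Y L X) X ∧
      MX (im (hN (S : Subgroup G) Y L X) (ML (S : Subgroup G) Y L)) (im (hN (S : Subgroup G) Y L X) X)
        (im (hN (S : Subgroup G) Y L X) (WH (S : Subgroup G) Y L)) (im (hN (S : Subgroup G) Y L X) A)
        (ad (h.cU hsd hc hne f hZ p) (VL (S : Subgroup G) Y L)) (ad (h.cU hsd hc hne f hZ p) F) x := by
  obtain ⟨A, hA, hAW, hAX⟩ := h.exists_opt hsd hc hne f hZ p hff
  have s := h.sit hsd hc hne f hZ p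
  have hXH : X ≤ nx (S : Subgroup G) Y L X := Step.X_le
  have hAT : A ≤ T := hAW.trans (h.fr hsd hc hne f hZ p).BT
  obtain ⟨x, hx⟩ := (s.tight (hN (S : Subgroup G) Y L X) hXH hA hAT hAX).ex
  exact ⟨A, x, hA, hAW, hAX, x.2,
    h.mx hsd hc hne f hZ p hK hpar hA hAW hAX (h.two hsd hc hne f hZ p (Or.inl hff)) hx⟩

end stage

/-! ### the fields `syl`, `S2` of `Blk` -/

section bar

variable {S : Sylow 2 G} (h : Stage S Y L) {U H : Subgroup G} (hN : H ≤ normalizer (U : Set G))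
  (hM : ML (S : Subgroup G) Y L ≤ H)

theorem SM_bar (h : Stage S Y L) : im hN (S : Subgroup G) ≤ im hN (ML (S : Subgroup G) Y L) :=
  LocBar.im_mono _ h.S_le

include h hM in
theorem syl_bar : ¬ 2 ∣ (im hN (S : Subgroup G)).relIndex (im hN (ML (S : Subgroup G) Y L)) :=
  syl_not_dvd (LocBar.syl_im hN (syl_of_le h.S_le) hM)

omit [Finite G] in
/-- `V = ⟨Y^M⟩` -/
theorem gen_bar {M V : Subgroup G} (hU : U ≤ centralizer (U : Set G)) (hM : M ≤ H) (hVU : V ≤ U) (hYV : Y ≤ V)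
    (hV : ∀ W : Subgroup G, Y ≤ W → M ≤ normalizer (W : Set G) → V ≤ W)
    (W : AddSubgroup (MU hU)) (hW : ∀ m ∈ im hN M, ∀ w ∈ W, m • w ∈ W)
    (hYW : ad hU Y ≤ W) : ad hU V ≤ W := by
  have h1 : V ≤ un W := by
    refine hV _ (fun z hz => ?_) fun m hm => ?_
    · have h2 : mk hU (hVU (hYV hz)) ∈ W := hYW hz
      exact ⟨_, h2, rfl⟩
    · have key : ∀ a : G, a ∈ M → ∀ w ∈ un W, a * w * a⁻¹ ∈ un W := by
        rintro a ha _ ⟨w, hw, rfl⟩
        exact ⟨pr hN ⟨a, hM ha⟩ • w, hW _ (LocBar.pr_mem_im hN ha (hM ha)) w hw, rfl⟩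
      rw [mem_normalizer_iff]
      intro w
      refine ⟨key m hm w, fun hw => ?_⟩
      have h2 := key m⁻¹ (inv_mem hm) _ hw
      have e : m⁻¹ * (m * w * m⁻¹) * m⁻¹⁻¹ = w := by group
      rwa [e] at h2
  intro v hv
  exact val_mem_un.1 (h1 hv)

omit [Finite G] in
/-- `V(L)` is generated by the conjugates of `Y`. -/
theorem gen_bar_stage (hU : U ≤ centralizer (U : Set G)) (hM : ML (S : Subgroup G) Y L ≤ H)
    (hVU : VL (S : Subgroup G) Y L ≤ U)
    (W : AddSubgroup (MU hU)) (hW : ∀ m ∈ im hN (ML (S : Subgroup G) Y L), ∀ w ∈ W, m • w ∈ W)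
    (hYW : ad hU Y ≤ W) : ad hU (VL (S : Subgroup G) Y L) ≤ W :=
  gen_bar hN hU hM hVU (le_cl _ _) (fun _ hW hWM => cl_le' hW hWM) W hW hYW

end bar

end Cfsg.Agent.Omega.NO3b.Seed

end

section


/-!
# The chain with a seed `Y`: (γ) over any local `J` (#20856 (2), #21336)

`B` admissible (`Adm S Y L B`), `V = VB Y B = ⟨Y^{N_G(B)}⟩`, `J ≥ N_G(B)`, `Y ≤ Ω₁(Z(O₂(J)))`, `U = ⟨Y^J⟩ = cl Y J`,
`(F, T, X)` a panel of `V`, `X ≤ J`.

* `blkMX` : `MX` gives `Blk0`;
* `Adm.sitJ` : the panel acts on `U`; `Adm.mxJ` : the M-side frame `MX` for the images of `N_G(B)`, `X`, `B`, `A` on `U`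
  for every line `x V` moved by the optimal offender `A ≤ B` of `U`, `A ≰ O₂(X)`; `Adm.blkJ` : the blocks;
* `Adm.exists_optJ` : `J = ⟨N_G(B), X i⟩`, `U` FF: an optimal offender `A ≤ B` of `U`, `A ≰ O₂(X i)` for some `i`;
* `Adm.exists_blkJ` : so some panel of the family has its blocks in `U`.
-/

set_option autoImplicit false
set_option linter.unusedSectionVars false

namespace Cfsg.Agent.Omega.NO3b.Seed

open Subgroup Cfsg
open Cfsg.Agent.ZN (o2 zc zl jj zj)
open Cfsg.Agent.ZN.ChoiceBase hiding mem_zc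
open Cfsg.Agent.ZN.ChoiceSit (Syl o2_le_syl syl_not_dvd)
open Cfsg.Agent.MinSimple.EmptyTI (syl_of_le)
open Cfsg.Agent.Omega.MinPar (IsParS IsLoc)
open Cfsg.Agent.Omega.NO3b.EZero (NotFF Par cl le_cl cj_le_cl cl_le le_normalizer_cl)
open Cfsg.Agent.Omega.NO3b.Alpha (Fl)
open Cfsg.Agent.Omega.NO3b.NoEmp (Lines)
open Cfsg.Agent.Omega.NOThreeL.Star (Opt exists_opt)
open Cfsg.Agent.Omega.NO3b.Wc (WC StmtOff cj_sSup)
open Cfsg.Agent.Omega.NO3b.Exit (MaxBad WW_cj WW_pgroup wc_S_le frattini offM_of_opt offM_of_max pan char2_of_loc)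
open Cfsg.Agent.Omega.NO3b.Exit.Bridge
open Cfsg.Agent.Omega.NO3b.Exit (LocBar.im_mono LocBar.im_smul LocBar.im_conj LocBar.im_fix LocBar.isPGroup_im
  LocBar.syl_im LocBar.pr_mem_im)
open Cfsg.Agent.Omega.NO3b.Exit.TDat (MX Red mx_of_tight sbc FFq ncl KV)
open Cfsg.Agent.Omega.NO3b.Exit.BlkZ (Blk0)
open Cfsg.Agent.Omega.NO3b.Exit.TBlk (sn_sbc_of_le)
open Cfsg.Agent.Omega.NO3b.BetaTwo (JB NB_le_JB X_le_JB)
open Cfsg.Agent.Omega.NO3b.K0.Mix (Pan)
open Cfsg.Agent.Omega.FFBr (XX pr im mem_im)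
open Cfsg.Agent.Omega.FF.Basic (fx)
open Cfsg.Agent.Omega.NO3b.Exit.TT (nf)
open Cfsg.Agent.MinSimple.VModule (le_normalizer_o2 o2_le oddGen le_o2 mem_normalizer_of_map_le)
open scoped Pointwise

universe u v

/-- The plug `MX → Blk0`. -/
theorem blkMX {Γ : Type u} {U : Type v} [Group Γ] [Finite Γ] [AddCommGroup U] [DistribMulAction Γ U]
    {M X D A : Subgroup Γ} {V F : AddSubgroup U} {g : Γ} (h : MX M X D A V F g) {S : Subgroup Γ} (SM : S ≤ M)
    (S2 : IsPGroup 2 S) (syl : ¬ 2 ∣ S.relIndex M) :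
    Blk0 (sbc M (FFq M F)) (FFq M F) (ncl (KV M V h.MV) A) V F (g • V) (fx U A) g⁻¹ M (KV M V h.MV) S where
  dat := h.dat
  KM := fun _ hk => hk.1
  nK := fun _ hm _ hk => h.KV_norm hm hk
  mV := h.MV
  kV := fun _ hk => hk.2
  kB := fun _ hk _ hb => NO3b.Exit.TDat.ncl_conj hk hb
  sn := sn_sbc_of_le MX.FFq_le_M h.sbc_le_KV fun _ hk => hk.1
  SM := SM
  S2 := S2
  syl := syl

variable {G : Type u} [Group G] [Finite G] {S : Sylow 2 G} {Y L B J F T X : Subgroup G}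

namespace Adm

section one

variable (a : Adm S Y L B) (hc : IsCharacteristicTwoType G) (hM : normalizer (B : Set G) ≤ J)
  (hYz : Y ≤ zc (o2 J)) (f : Fl S (VB Y B) F T) (p : Par (VB Y B) F T X) (hX : X ≤ J)

omit [Finite G] in
/-- `V ≤ ⟨Y^J⟩` -/
theorem V_leJ (hM : normalizer (B : Set G) ≤ J) : VB Y B ≤ cl Y J := cl_mono _ hM

include a hc hM hYz f p hX

/-- the panel acts on `⟨Y^J⟩` -/
theorem sitJ : Sit (VB Y B) F T X (cl Y J) :=
  Sit.of_fl hc a.lines f p (cl_cent hYz) (cl_sq hYz) (V_leJ hM) (hX.trans (le_normalizer_cl _ _))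

/-- **the M-side frame for every line moved by `A`** -/
theorem mxJ {A : Subgroup G} (hA : Opt (cl Y J) A) (hAB : A ≤ B) (hAX : ¬ A ≤ o2 X)
    (h2 : K0.Mix.Two (VB Y B) X)
    (hred : Red (im (le_normalizer_cl Y J) (normalizer (B : Set G))) (ad (cl_cent hYz) (VB Y B)))
    {x : ↥(im (le_normalizer_cl Y J) X)}
    (hx : ¬ imx (le_normalizer_cl Y J) X A ≤ nf _ (sm x (ad (cl_cent hYz) (VB Y B)))) :
    MX (im (le_normalizer_cl Y J) (normalizer (B : Set G))) (im (le_normalizer_cl Y J) X)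
      (im (le_normalizer_cl Y J) B) (im (le_normalizer_cl Y J) A)
      (ad (cl_cent hYz) (VB Y B)) (ad (cl_cent hYz) F) (x : XX (le_normalizer_cl Y J)) := by
  have s := a.sitJ hc hM hYz f p hX
  obtain ⟨P, hP⟩ := s.exists_syl (le_normalizer_cl Y J) hX
  have hBT : B ≤ T := by
    have hQ := f.Q0_le
    rwa [a.cs] at hQ
  have hAT : A ≤ T := hAB.trans hBT
  have hAXX : A ≤ X := hAT.trans s.syl.1
  have e : (imx (le_normalizer_cl Y J) X A).map (im (le_normalizer_cl Y J) X).subtype =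
      im (le_normalizer_cl Y J) A := by
    unfold imx
    rw [subgroupOf_map_subtype]
    exact inf_eq_left.2 (LocBar.im_mono _ hAXX)
  have hSM : (S : Subgroup G) ≤ normalizer (B : Set G) := wc_S_le a.wc
  have key := mx_of_tight (faith (hc := s.cm) (le_normalizer_cl Y J))
    (s.datU (le_normalizer_cl Y J) hX hP)
    (s.mbu (le_normalizer_cl Y J) hX hA hAT hAX) (by
      intro h0
      refine s.two_ne hA hAT hAX h2 fun b hb => ?_
      have h1 : phi (le_normalizer_cl Y J) hX ⟨b, hAXX hb.1⟩ ∈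
          imx (le_normalizer_cl Y J) X A ⊓ pCore 2 ↥(im (le_normalizer_cl Y J) X) :=
        ⟨phi_mem_imx _ hX hb.1, (s.mem_core_iff _ hX (hAT hb.1)).2 hb.2⟩
      rw [h0, mem_bot] at h1
      exact (phi_eq_one _ hX).1 h1)
    (M := im (le_normalizer_cl Y J) (normalizer (B : Set G)))
    (D := im (le_normalizer_cl Y J) B)
    (fun m hm v hv => LocBar.im_smul _ (le_normalizer_cl _ _) hm hv)
    (LocBar.im_mono _ (hBT.trans s.syl.1)) (by rw [e]; exact LocBar.im_mono _ hAB)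
    (fun m hm d hd => LocBar.im_conj _ (by rfl) hm hd)
    (fun d hd v hv => LocBar.im_fix _ a.lines.JV hd hv) (by
      rw [← s.core_eq (le_normalizer_cl Y J) hX]
      unfold imx
      rw [subgroupOf_map_subtype]
      refine inf_le_left.trans (LocBar.im_mono _ ?_)
      exact (o2_le_syl s.syl).trans (f.T_le.trans hSM)) hred hx
  rwa [e] at key

/-- the M-side frame for some line -/
theorem exists_mxJ {A : Subgroup G} (hA : Opt (cl Y J) A) (hAB : A ≤ B) (hAX : ¬ A ≤ o2 X)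
    (h2 : K0.Mix.Two (VB Y B) X)
    (hred : Red (im (le_normalizer_cl Y J) (normalizer (B : Set G))) (ad (cl_cent hYz) (VB Y B))) :
    ∃ x : XX (le_normalizer_cl Y J), x ∈ im (le_normalizer_cl Y J) X ∧
      MX (im (le_normalizer_cl Y J) (normalizer (B : Set G))) (im (le_normalizer_cl Y J) X)
        (im (le_normalizer_cl Y J) B) (im (le_normalizer_cl Y J) A)
        (ad (cl_cent hYz) (VB Y B)) (ad (cl_cent hYz) F) x := by
  have s := a.sitJ hc hM hYz f p hX
  have hBT : B ≤ T := by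
    have hQ := f.Q0_le
    rwa [a.cs] at hQ
  obtain ⟨x, hx⟩ := (s.tight (le_normalizer_cl Y J) hX hA (hAB.trans hBT) hAX).ex
  exact ⟨x, x.2, a.mxJ hc hM hYz f p hX hA hAB hAX h2 hred hx⟩

omit hYz f p hX hc in
/-- `|N_G(B) : S|` is odd in the module `⟨Y^J⟩` -/
theorem syl_imJ :
    ¬ 2 ∣ (im (le_normalizer_cl Y J) (S : Subgroup G)).relIndex
      (im (le_normalizer_cl Y J) (normalizer (B : Set G))) :=
  syl_not_dvd (LocBar.syl_im _ (syl_of_le (wc_S_le a.wc)) hM)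

/-- **the blocks of `V` in `⟨Y^J⟩`** -/
theorem blkJ {A : Subgroup G} (hA : Opt (cl Y J) A) (hAB : A ≤ B) (hAX : ¬ A ≤ o2 X)
    (h2 : K0.Mix.Two (VB Y B) X)
    (hred : Red (im (le_normalizer_cl Y J) (normalizer (B : Set G))) (ad (cl_cent hYz) (VB Y B))) :
    ∃ x : XX (le_normalizer_cl Y J), x ∈ im (le_normalizer_cl Y J) X ∧
      ∃ m : MX (im (le_normalizer_cl Y J) (normalizer (B : Set G))) (im (le_normalizer_cl Y J) X)
        (im (le_normalizer_cl Y J) B) (im (le_normalizer_cl Y J) A)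
        (ad (cl_cent hYz) (VB Y B)) (ad (cl_cent hYz) F) x,
      Blk0 (sbc (im (le_normalizer_cl Y J) (normalizer (B : Set G)))
          (FFq (im (le_normalizer_cl Y J) (normalizer (B : Set G))) (ad (cl_cent hYz) F)))
        (FFq (im (le_normalizer_cl Y J) (normalizer (B : Set G))) (ad (cl_cent hYz) F))
        (ncl (KV (im (le_normalizer_cl Y J) (normalizer (B : Set G))) (ad (cl_cent hYz) (VB Y B)) m.MV)
          (im (le_normalizer_cl Y J) A))
        (ad (cl_cent hYz) (VB Y B)) (ad (cl_cent hYz) F) (x • ad (cl_cent hYz) (VB Y B))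
        (fx (MU (cl_cent hYz)) (im (le_normalizer_cl Y J) A)) x⁻¹
        (im (le_normalizer_cl Y J) (normalizer (B : Set G)))
        (KV (im (le_normalizer_cl Y J) (normalizer (B : Set G))) (ad (cl_cent hYz) (VB Y B)) m.MV)
        (im (le_normalizer_cl Y J) (S : Subgroup G)) := by
  obtain ⟨x, hx, m⟩ := a.exists_mxJ hc hM hYz f p hX hA hAB hAX h2 hred
  exact ⟨x, hx, m, blkMX m (LocBar.im_mono _ (wc_S_le a.wc)) (LocBar.isPGroup_im _ S.isPGroup')
    (a.syl_imJ hM)⟩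

end one

/-! ### a family of panels -/

section fam

variable {ι : Type v} {F T X : ι → Subgroup G}

theorem S_leJB (a : Adm S Y L B) : (S : Subgroup G) ≤ JB B X := (wc_S_le a.wc).trans NB_le_JB

/-- **an optimal offender of `⟨Y^J⟩` in `B`, not in `O₂(X i)` for some `i`** -/
theorem exists_optJ (a : Adm S Y L B) (hc : IsCharacteristicTwoType G)
    (f : ∀ i, Fl S (VB Y B) (F i) (T i)) (p : ∀ i, Par (VB Y B) (F i) (T i) (X i))
    (hYz : Y ≤ zc (o2 (JB B X))) (hff : ¬ NotFF (cl Y (JB B X))) :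
    ∃ A : Subgroup G, Opt (cl Y (JB B X)) A ∧ A ≤ B ∧ ∃ i, ¬ A ≤ o2 (X i) := by
  set V := VB Y B with hVd
  set J := JB B X with hJ
  have l := a.lines
  have hMJ : normalizer (B : Set G) ≤ J := NB_le_JB
  have hXJ : ∀ i, X i ≤ J := X_le_JB
  have hSJ : (S : Subgroup G) ≤ J := a.S_leJB
  have pn : ∀ i, Pan V (F i) (T i) (X i) (normalizer (B : Set G)) B := fun i => by
    have h1 := pan (f i) l (p i) fun g hg => Alpha.ti hc l g hg
    rwa [a.cs] at h1
  have hBT : ∀ i, B ≤ T i := fun i => by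
    have hQ := (f i).Q0_le
    rwa [a.cs] at hQ
  have hVc := cl_cent hYz
  have hVJ : V ≤ cl Y J := V_leJ hMJ
  have hUH : ∀ i, cl V (X i) ≤ cl Y J := fun i => cl_le' hVJ ((hXJ i).trans (le_normalizer_cl _ _))
  -- best offenders centralise `V`
  have hAV : ∀ A, Opt (cl Y J) A → A ≤ (S : Subgroup G) → A ≤ B := by
    intro A hA hAS
    refine le_trans (le_inf hAS ?_) a.cs.le
    by_contra hne
    have hoff := offM_of_opt hA hVc hVJ hne
    have h3 := a.nff A hA.pg (hAS.trans a.lines.S_le) hoff.sq hoff.comm hne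
    exact absurd (FFThm.relIndex_le_iff.1 hoff.le) (not_le.2 h3)
  have hQB : (S : Subgroup G) ⊓ centralizer (cl Y J : Set G) ≤ B :=
    (inf_le_inf_left _ (centralizer_le hVJ)).trans a.cs.le
  obtain ⟨A0, hA0⟩ := exists_opt hff
  obtain ⟨n, hn, hnS⟩ := FFThm.exists_conj_le S (hSJ.trans (le_normalizer_cl _ _)) hA0.pg hA0.norm
  set Fam : Set (Subgroup G) := {D | D = (S : Subgroup G) ⊓ centralizer (cl Y J : Set G) ∨
      Opt (cl Y J) D ∧ D ≤ (S : Subgroup G)} with hFam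
  have hFamB : ∀ D ∈ Fam, D ≤ B := by
    rintro D (rfl | ⟨h1, h2⟩)
    · exact hQB
    · exact hAV D h1 h2
  have hcl : ∀ g ∈ J, (∀ D ∈ Fam, cj g D ≤ (S : Subgroup G)) → ∀ D ∈ Fam, cj g D ≤ sSup Fam := by
    rintro g hg hgS D (rfl | ⟨h1, h2⟩)
    · refine le_trans (le_inf (hgS _ (Or.inl rfl)) ?_) (le_sSup (Or.inl rfl))
      rw [cj_inf, cj_centralizer, cj_eq_of_mem_normalizer (le_normalizer_cl _ _ hg)]
      exact inf_le_right
    · exact le_sSup (a := cj g D) (Or.inr ⟨h1.cj (le_normalizer_cl _ _ hg), hgS D (Or.inr ⟨h1, h2⟩)⟩)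
  have hex : ∃ i, ∃ D ∈ Fam, ¬ D ≤ o2 (X i) := by
    by_contra hcon
    push Not at hcon
    have hKB : sSup Fam ≤ B := sSup_le hFamB
    have hKS : sSup Fam ≤ (S : Subgroup G) := hKB.trans a.wc.le
    have hcl' : ∀ g ∈ J, cj g (sSup Fam) ≤ (S : Subgroup G) → cj g (sSup Fam) ≤ sSup Fam := by
      intro g hg hgS
      rw [cj_sSup]
      exact iSup_le fun D => hcl g hg (fun D hD => (cj_mono g (le_sSup hD)).trans hgS) D D.2
    have hcore : sSup Fam ≤ o2 J := by
      refine le_o2 (hKS.trans hSJ) (S.isPGroup'.to_le hKS) (sup_le ?_ (iSup_le fun i => ?_))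
      · intro m hm
        refine mem_normalizer_of_map_le (hcl' m (hMJ hm) ?_)
        have h1 := cj_mono m hKB
        rw [cj_eq_of_mem_normalizer hm] at h1
        exact h1.trans a.wc.le
      · intro x hx
        refine mem_normalizer_of_map_le (hcl' x (hXJ i hx) ?_)
        have h1 := cj_mono x (sSup_le (hcon i) : sSup Fam ≤ o2 (X i))
        rw [cj_eq_of_mem_normalizer (le_normalizer_o2 _ hx)] at h1
        exact h1.trans ((o2_le_syl ((f i).sylX (p i))).trans (f i).T_le)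
    exact (hA0.cj hn).ne (((le_sSup (a := cj n A0) (Or.inr ⟨hA0.cj hn, hnS⟩)).trans hcore).trans
      (o2_cent hYz))
  obtain ⟨i, D, hD, hDX⟩ := hex
  rcases hD with rfl | ⟨h1, h2⟩
  · exact absurd ((pn i).le_o2_of_cent_U (S.isPGroup'.to_le (hQB.trans a.wc.le))
      ((hQB.trans (hBT i)).trans (p i).T_le) (inf_le_right.trans (centralizer_le (hUH i)))) hDX
  · exact ⟨D, h1, hAV D h1 h2, i, hDX⟩

end fam

end Adm

end Cfsg.Agent.Omega.NO3b.Seed

end

section


/-!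
# THEOREM BETA2 for a family of panels, with a seed `Y` (#21336 (A), #20856 (2))

`BetaTwo/FamAdm.lean`, `BetaTwo/FamMain.lean` with `⟨Y^J⟩ = cl Y J` in place of `V_J`: `B` admissible
(`Adm S Y L B`), `V = VB Y B`, `(F i, T i, X i)` panels of `V` with two noncentral factors, `J = JB B X =
⟨N_G(B), X i⟩` 2-local, `Y ≤ Ω₁(Z(O₂(J)))`, `V'_J = VL S Y (LH S Y J)`:

* `good_adm` : `V ≤ O₂(C_G(D))` for `1 ≠ D ≤ V` (from TI);
* `exists_btF_adm`, `fam_adm` : `⟨Y^J⟩` not FF: `V'_J ≤ O₂(C_G(Z))`;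
* `closed_adm` : `V'_J ≤ O₂(C_G(Z))` gives an admissible `B' < B`;
* `ff_adm` : `B` minimal admissible: `⟨Y^J⟩` is FF.
-/

set_option autoImplicit false
set_option linter.unusedSectionVars false

namespace Cfsg.Agent.Omega.NO3b.Seed

open Subgroup Cfsg
open Cfsg.Agent.ZN (o2 zc zl)
open Cfsg.Agent.ZN.ChoiceBase hiding mem_zc
open Cfsg.Agent.ZN.ChoiceSit (o2_le_syl)
open Cfsg.Agent.Omega.NO3b.EZero (NotFF Par cent_symm cj_cent cl le_cl cj_le_cl cl_le le_normalizer_cl)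
open Cfsg.Agent.Omega.NO3b.Alpha (Fl)
open Cfsg.Agent.Omega.NO3b.Wc (WC StmtOff cj_sSup)
open Cfsg.Agent.Omega.NO3b.Exit (MaxBad WW_cj WW_pgroup wc_S_le pan char2_of_loc sm)
open Cfsg.Agent.Omega.NO3b.BetaTwo (JB NB_le_JB X_le_JB BtF noOver_of)
open Cfsg.Agent.Omega.NO3b.K0.Mix (Pan SM Two)
open Cfsg.Agent.Omega.NOne.Flat (EE WW NN)
open Cfsg.Agent.MinSimple.VModule (le_normalizer_o2 le_o2 mem_normalizer_of_map_le)

universe u v

variable {G : Type u} [Group G] [Finite G] {S : Sylow 2 G} {Y L B : Subgroup G} {ι : Type v}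
  {F T X : ι → Subgroup G}

/-- `V ≤ O₂(C_G(D))` for `1 ≠ D ≤ V` -/
theorem good_adm (a : Adm S Y L B) (hc : IsCharacteristicTwoType G) {D : Subgroup G}
    (hD : D ≤ VB Y B) (hD1 : D ≠ ⊥) : VB Y B ≤ o2 (centralizer (D : Set G)) := by
  set V := VB Y B with hV
  have l := a.lines
  have hVD : ∀ y ∈ centralizer (D : Set G), D ≤ cj y V := by
    intro y hy d hd
    have h1 := mem_centralizer_iff.1 hy d hd
    rw [mem_cj, mul_assoc, h1, inv_mul_cancel_left]
    exact hD hd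
  have hcm : ∀ y ∈ centralizer (D : Set G), ∀ z ∈ centralizer (D : Set G),
      cj y V ≤ centralizer ((cj z V : Subgroup G) : Set G) := by
    intro y hy z hz
    have h1 := Alpha.ti hc l (y⁻¹ * z) (by
      intro h0
      apply hD1
      rw [← le_bot_iff, ← h0]
      exact le_inf hD (hVD _ (mul_mem (inv_mem hy) hz)))
    have h2 := cj_cent (g := y) h1
    rwa [cj_cj, mul_inv_cancel_left] at h2
  have hUc : cl V (centralizer (D : Set G)) ≤ centralizer (cl V (centralizer (D : Set G)) : Set G) :=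
    cl_le fun _ hy => cent_symm (cl_le fun _ hz => hcm _ hz _ hy)
  have hsq : ∀ u ∈ cl V (centralizer (D : Set G)), u ^ 2 = 1 := by
    refine EZero.sq_of_comm hUc (fun i : centralizer (D : Set G) => cj_le_cl i.2) le_rfl fun i v hv => ?_
    have h1 := l.sq _ (mem_cj.1 hv)
    have e : v ^ 2 = i * ((i : G)⁻¹ * v * i) ^ 2 * (i : G)⁻¹ := by rw [pow_two, pow_two]; group
    rw [e, h1]; group
  have hle : cl V (centralizer (D : Set G)) ≤ centralizer (D : Set G) := by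
    refine cl_le fun y hy => ?_
    have h1 : V ≤ centralizer (D : Set G) := l.comm.trans (centralizer_le hD)
    have h2 := cj_mono y h1
    rwa [K0.cj_self hy] at h2
  exact (le_cl V _).trans (le_o2 hle (NoEmp.pgroup_of_sq hsq) (le_normalizer_cl _ _))

theorem good_adm_cj (a : Adm S Y L B) (hc : IsCharacteristicTwoType G) (g : G) (D : Subgroup G)
    (hD : D ≤ cj g (VB Y B)) (hD1 : D ≠ ⊥) : cj g (VB Y B) ≤ o2 (centralizer (D : Set G)) := by
  have h1 := good_adm a hc (D := cj g⁻¹ D) (by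
    have h1 := cj_mono g⁻¹ hD
    rwa [cj_inv_cj] at h1) (fun h0 => hD1 (by
    have h1 := congrArg (cj g) h0
    rwa [cj_cj_inv, K0.cj_bot'] at h1))
  have h2 := cj_mono g h1
  rwa [← Cfsg.Agent.ZN.ChoiceBase.pCore_cj, cj_centralizer, cj_cj_inv] at h2

section

variable (a : Adm S Y L B) (hc : IsCharacteristicTwoType G)
  (f : ∀ i, Fl S (VB Y B) (F i) (T i))
  (p : ∀ i, Par (VB Y B) (F i) (T i) (X i))
  (hYz : Y ≤ zc (o2 (JB B X)))
  (hloc : ∃ R : Subgroup G, R ≠ ⊥ ∧ IsPGroup 2 R ∧ JB B X ≤ normalizer (R : Set G))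
include a hc hYz hloc

omit hc hYz hloc in
theorem S_le_JB : (S : Subgroup G) ≤ JB B X := (wc_S_le a.wc).trans NB_le_JB

omit hYz in
theorem char2_JB : JB B X ⊓ centralizer (o2 (JB B X) : Set G) ≤ o2 (JB B X) := by
  obtain ⟨R, hR, hR2, hJR⟩ := hloc
  exact char2_of_loc hc (S_le_JB a) hR2 hR hJR

omit a hc hYz hloc in
theorem V_le_clJB : VB Y B ≤ cl Y (JB B X) := cl_mono _ NB_le_JB

omit a hc hYz hloc in
theorem cl_le_clJB : cl (VB Y B) (JB B X) ≤ cl Y (JB B X) := cl_le' V_le_clJB (le_normalizer_cl _ _)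

omit hc hloc in
theorem clJB_le_V' (hn : NotFF (cl Y (JB B X))) :
    cl Y (JB B X) ≤ VL (S : Subgroup G) Y (LH (S : Subgroup G) Y (JB B X)) := by
  have h1 := (root_LH (S_le_JB a) hYz a.ZY hn).cl_le_V
  rwa [cl_LH (S_le_JB a)] at h1

omit hc hYz hloc in
theorem WH_le_JB : WH (S : Subgroup G) Y (LH (S : Subgroup G) Y (JB B X)) ≤
    (S : Subgroup G) ⊓ centralizer (cl Y (JB B X) : Set G) := by
  have h1 := WH_le (S : Subgroup G) Y (LH (S : Subgroup G) Y (JB B X))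
  unfold QL at h1
  rwa [cl_LH (S_le_JB a)] at h1

omit hc hYz hloc in
theorem WH_le_B_JB : WH (S : Subgroup G) Y (LH (S : Subgroup G) Y (JB B X)) ≤ B :=
  ((WH_le_JB a).trans (inf_le_inf_left _ (centralizer_le V_le_clJB))).trans a.cs.le

include f p

omit hc hloc in
/-- `V'_J ≤ O₂(C_G(Z))`: a smaller admissible subgroup. -/
theorem closed_adm [hι : Nonempty ι] (hn : NotFF (cl Y (JB B X)))
    (hV : VL (S : Subgroup G) Y (LH (S : Subgroup G) Y (JB B X)) ≤
      o2 (centralizer (zc (S : Subgroup G) : Set G))) :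
    Adm S Y L (WH (S : Subgroup G) Y (LH (S : Subgroup G) Y (JB B X))) ∧
      WH (S : Subgroup G) Y (LH (S : Subgroup G) Y (JB B X)) ≤ B ∧
      WH (S : Subgroup G) Y (LH (S : Subgroup G) Y (JB B X)) ≠ B := by
  have h := root_LH (S_le_JB a) hYz a.ZY hn
  have h1 := Adm.of_root h hV
  refine ⟨⟨a.ZY, h1.wc, (WH_le_B_JB a).trans a.le, h1.cs, h1.comm, h1.sq, h1.nff, h1.low⟩, WH_le_B_JB a,
    fun h0 => ?_⟩
  obtain ⟨i⟩ := hι
  apply (p i).nle
  have h2 : cl Y (JB B X) ≤ VB Y B := by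
    have h3 := clJB_le_V' a hYz hn
    have h4 : VL (S : Subgroup G) Y (LH (S : Subgroup G) Y (JB B X)) =
        VB Y (WH (S : Subgroup G) Y (LH (S : Subgroup G) Y (JB B X))) := rfl
    rwa [h4, h0] at h3
  have h3 : cl Y (JB B X) = VB Y B := le_antisymm h2 V_le_clJB
  have h4 := (X_le_JB (B := B) (X := X) i).trans (le_normalizer_cl Y (JB B X))
  rwa [h3] at h4

theorem exists_btF_adm (h2 : ∀ i, Two (VB Y B) (X i)) (hSne : (S : Subgroup G) ≠ ⊥)
    (hn : NotFF (cl Y (JB B X)))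
    (hV : ¬ VL (S : Subgroup G) Y (LH (S : Subgroup G) Y (JB B X)) ≤
      o2 (centralizer (zc (S : Subgroup G) : Set G))) :
    ∃ F₁ : Subgroup G, BtF (VB Y B) F T X (normalizer (B : Set G)) B
      (VL (S : Subgroup G) Y (LH (S : Subgroup G) Y (JB B X))) F₁ ∧
      ¬ cl (VB Y B) (JB B X) ≤
        EE (VL (S : Subgroup G) Y (LH (S : Subgroup G) Y (JB B X))) F₁ ∧
      cl (VB Y B) (JB B X) ≤ VL (S : Subgroup G) Y (LH (S : Subgroup G) Y (JB B X)) := by
  set V := VB Y B with hVd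
  set J := JB B X with hJ
  set V' := VL (S : Subgroup G) Y (LH (S : Subgroup G) Y J) with hV'
  have l := a.lines
  have hOff := Final.stmtOff G
  have hMJ : normalizer (B : Set G) ≤ J := NB_le_JB
  have hXJ : ∀ i, X i ≤ J := X_le_JB
  have hSJ : (S : Subgroup G) ≤ J := S_le_JB a
  have char2 : J ⊓ centralizer (o2 J : Set G) ≤ o2 J := char2_JB a hc hloc
  have pn : ∀ i, Pan V (F i) (T i) (X i) (normalizer (B : Set G)) B := fun i => by
    have h1 := pan (f i) l (p i) fun g hg => Alpha.ti hc l g hg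
    rwa [a.cs] at h1
  have hBT : ∀ i, B ≤ T i := fun i => by
    have hQ := (f i).Q0_le
    rwa [a.cs] at hQ
  have root : Root S Y (LH (S : Subgroup G) Y J) := root_LH hSJ hYz a.ZY hn
  have hle : cl Y J ≤ V' := clJB_le_V' a hYz hn
  have hVJ : V ≤ cl Y J := V_le_clJB
  have hVH : cl V J ≤ cl Y J := cl_le_clJB
  have hHV : cl Y J ≤ cl V J := cl_mono_left _ (le_cl _ _)
  have hUH : ∀ i, cl V (X i) ≤ cl Y J := fun i => cl_le fun x hx =>
    (cj_le_cl (V := V) (hXJ i hx)).trans hVH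
  -- `W_F ≤ S` implies `W_F ≤ B`
  have hWB : ∀ F, MaxBad V' F → WW V' F ≤ (S : Subgroup G) → WW V' F ≤ B := by
    intro F hF hFS
    refine le_trans (le_inf hFS ?_) a.cs.le
    by_contra hne
    have hoff := off_of hc hOff root hF hFS (hVJ.trans hle) a.low hne
    have h3 := a.nff _ (WW_pgroup _ _) (hFS.trans a.lines.S_le) hoff.sq hoff.comm hne
    exact absurd (FFThm.relIndex_le_iff.1 hoff.le) (not_le.2 h3)
  have hWHle := WH_le_JB a (X := X)
  have hWHB := WH_le_B_JB a (X := X)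
  obtain ⟨F0, hF0, hS0, hne0⟩ := exists_WW hc hSne root hV
  rw [cl_LH hSJ] at hne0
  set Fam : Set (Subgroup G) := {D | D = WH (S : Subgroup G) Y (LH (S : Subgroup G) Y J) ∨
      ∃ F, MaxBad V' F ∧ WW V' F = D ∧ WW V' F ≤ (S : Subgroup G)} with hFam
  have hFamB : ∀ D ∈ Fam, D ≤ B := by
    rintro D (rfl | ⟨F, hF, rfl, hFS⟩)
    · exact hWHB
    · exact hWB F hF hFS
  have hcl : ∀ g ∈ J, (∀ D ∈ Fam, cj g D ≤ (S : Subgroup G)) → ∀ D ∈ Fam, cj g D ≤ sSup Fam := by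
    intro g hg hgS
    have hgM : g ∈ ML (S : Subgroup G) Y (LH (S : Subgroup G) Y J) := mem_ML_of_le (hgS _ (Or.inl rfl))
    rintro D (rfl | ⟨F, hF, rfl, hFS⟩)
    · rw [cj_eq_of_mem_normalizer hgM]
      exact le_sSup (Or.inl rfl)
    · have h1 := WW_cj (F := F) (ML_le_norm_V _ _ _ hgM)
      have h3 := hgS _ (Or.inr ⟨F, hF, rfl, hFS⟩)
      rw [← h1] at h3 ⊢
      exact le_sSup (Or.inr ⟨cj g F, hF.cj (ML_le_norm_V _ _ _ hgM), rfl, h3⟩)
  have hex : ∃ i, ∃ D ∈ Fam, ¬ D ≤ o2 (X i) := by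
    by_contra hcon
    push Not at hcon
    have hKB : sSup Fam ≤ B := sSup_le hFamB
    have hKS : sSup Fam ≤ (S : Subgroup G) := hKB.trans a.wc.le
    have hcl' : ∀ g ∈ J, cj g (sSup Fam) ≤ (S : Subgroup G) → cj g (sSup Fam) ≤ sSup Fam := by
      intro g hg hgS
      rw [cj_sSup]
      exact iSup_le fun D => hcl g hg (fun D hD => (cj_mono g (le_sSup hD)).trans hgS) D D.2
    have hcore : sSup Fam ≤ o2 J := by
      refine le_o2 (hKS.trans hSJ) (S.isPGroup'.to_le hKS) (sup_le ?_ (iSup_le fun i => ?_))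
      · intro m hm
        refine mem_normalizer_of_map_le (hcl' m (hMJ hm) ?_)
        have h1 := cj_mono m hKB
        rw [cj_eq_of_mem_normalizer hm] at h1
        exact h1.trans a.wc.le
      · intro x hx
        refine mem_normalizer_of_map_le (hcl' x (hXJ i hx) ?_)
        have h1 := cj_mono x (sSup_le (hcon i) : sSup Fam ≤ o2 (X i))
        rw [cj_eq_of_mem_normalizer (le_normalizer_o2 _ hx)] at h1
        exact h1.trans ((o2_le_syl ((f i).sylX (p i))).trans (f i).T_le)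
    exact hne0 (((le_sSup (a := WW V' F0) (Or.inr ⟨F0, hF0, rfl, hS0⟩)).trans hcore).trans (o2_cent hYz))
  obtain ⟨i, D, hD, hDX⟩ := hex
  have hcen : ∀ D, D ≤ B → D ≤ centralizer (cl Y J : Set G) → D ≤ o2 (X i) := fun D hDB hDc =>
    (pn i).le_o2_of_cent_U (S.isPGroup'.to_le (hDB.trans a.wc.le)) ((hDB.trans (hBT i)).trans (p i).T_le)
      (hDc.trans (centralizer_le (hUH i)))
  rcases hD with rfl | ⟨F₁, hF₁, rfl, hFS⟩
  · exact absurd (hcen _ hWHB (hWHle.trans inf_le_right)) hDX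
  have hWB₁ := hWB F₁ hF₁ hFS
  have hy : NOne.Flat.Hyp V' F₁ := hyp_of hc root hF₁
  refine ⟨F₁, ?_, fun h0 => ?_, hVH.trans hle⟩
  · exact
      { pan := pn
        noov := fun i => K0.noOv FFBr.aStmt ((f i).sylX (p i)) ((f i).isMinPar l (p i))
        sm := fun i => sm l hc (pn i)
        two := h2
        hno := fun i => noOver_of (Exit.Bridge.Sit.of_fl hc l (f i) (p i) (pn i).U_comm (pn i).U_sq (le_cl _ _)
          (le_normalizer_cl _ _))
        hy := hy
        hoff := hOff _ _ hy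
        good := good_adm_cj a hc
        WQ := hWB₁
        WX := ⟨i, hDX⟩
        UV := fun i => (hUH i).trans hle }
  · -- `W` centralises `⟨Y^J⟩`
    have h1 : cl Y J ≤ EE V' F₁ := hHV.trans h0
    have h3 := hy.off_of_le (hOff _ _ hy) h1
    have hW2 : IsPGroup 2 (WW V' F₁) := WW_pgroup _ _
    have hWH : WW V' F₁ ≤ normalizer (cl Y J : Set G) :=
      ((hWB₁.trans a.wc.le).trans hSJ).trans (le_normalizer_cl _ _)
    obtain ⟨e1, e2⟩ := hy.elem_W hle
    by_cases hcen' : WW V' F₁ ≤ centralizer (cl Y J : Set G)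
    · exact hDX (hcen _ hWB₁ hcen')
    · have h4 := hn (WW V' F₁) hW2 hWH (fun s hs => by rw [pow_two]; exact e2 s hs)
        (fun s hs t ht => e1 s hs t ht) hcen'
      exact absurd h3 (not_le.2 h4)

variable (h2 : ∀ i, Two (VB Y B) (X i)) (hSne : (S : Subgroup G) ≠ ⊥)
include h2 hSne

/-- **THEOREM BETA2 for a family**, for an admissible `B` -/
theorem fam_adm (hn : NotFF (cl Y (JB B X))) :
    VL (S : Subgroup G) Y (LH (S : Subgroup G) Y (JB B X)) ≤
      o2 (centralizer (zc (S : Subgroup G) : Set G)) := by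
  by_contra hV
  obtain ⟨F₁, t, h1, h3⟩ := exists_btF_adm a hc f p hYz hloc h2 hSne hn hV
  exact t.false (H := JB B X) (sup_le le_sup_right le_sup_left) NB_le_JB X_le_JB h1 h3

/-- `B` minimal admissible: `⟨Y^J⟩` is FF for every nonempty family of panels with two noncentral factors. -/
theorem ff_adm [Nonempty ι] (hmin : ∀ B', Adm S Y L B' → B' ≤ B → B' = B) :
    ¬ NotFF (cl Y (JB B X)) := by
  intro hn
  obtain ⟨h1, h3, h4⟩ := closed_adm a f p hYz hn (fam_adm a hc f p hYz hloc h2 hSne hn)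
  exact h4 (hmin _ h1 h3)

end

/-- `J = ⟨N_G(B), X i⟩` is 2-local. -/
theorem loc_fam (a : Adm S Y L B) (hc : IsCharacteristicTwoType G) [Nonempty ι]
    (f : ∀ i, Fl S (VB Y B) (F i) (T i)) (p : ∀ i, Par (VB Y B) (F i) (T i) (X i))
    (h2 : ∀ i, Two (VB Y B) (X i)) :
    ∃ R : Subgroup G, R ≠ ⊥ ∧ IsPGroup 2 R ∧ JB B X ≤ normalizer (R : Set G) := by
  obtain ⟨R, hR, hR2, h3, h4⟩ := Exit.exists_loc_fam FFBr.aStmt hc a.lines F T X f p h2
  rw [a.cs] at h3
  exact ⟨R, hR, hR2, sup_le h3 (iSup_le h4)⟩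

end Cfsg.Agent.Omega.NO3b.Seed

end

section


/-!
# The chain with a seed `Y`: the panels of `V` as a system `PanSys` (#20856 (2), #22211)

`B` admissible (`Adm S Y L B`), `V = VB Y B`, `(F i, T i, X i)` panels of `V` with two noncentral factors.

* `Adm.blkIn` : one panel, in the module `⟨Y^J⟩`, `J ≥ N_G(B), X`, for an optimal offender `A ≤ B`, `A ≰ O₂(X)`;
* `Adm.panSys` : if `⟨Y^J⟩` is FF for `J = ⟨N_G(B), X i, X j⟩` and all `i`, `j` then the panels form a `PanSys`.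
-/

set_option autoImplicit false

namespace Cfsg.Agent.Omega.NO3b.Seed

open Subgroup Cfsg
open Cfsg.Agent.ZN (o2 zc zl jj zj)
open Cfsg.Agent.ZN.ChoiceBase hiding mem_zc
open Cfsg.Agent.Omega.NO3b.EZero (NotFF Par cl le_cl cj_le_cl cl_le le_normalizer_cl)
open Cfsg.Agent.Omega.NO3b.Alpha (Fl)
open Cfsg.Agent.Omega.NOThreeL.Star (Opt exists_opt)
open Cfsg.Agent.Omega.NO3b.Exit (wc_S_le)
open Cfsg.Agent.Omega.NO3b.Exit.Bridge
open Cfsg.Agent.Omega.NO3b.Exit.TDat (Red)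
open Cfsg.Agent.Omega.NO3b.BetaTwo (JB)
open Cfsg.Agent.Omega.NO3b.BasePt (BlkIn blkIn_of_mx PanSys)
open Cfsg.Agent.Omega.FFBr (XX im)

universe u v

variable {G : Type u} [Group G] [Finite G] {S : Sylow 2 G} {Y L B : Subgroup G}

namespace Adm

section one

variable {J F T X : Subgroup G} (a : Adm S Y L B) (hc : IsCharacteristicTwoType G)
  (hM : normalizer (B : Set G) ≤ J) (hYz : Y ≤ zc (o2 J)) (f : Fl S (VB Y B) F T) (p : Par (VB Y B) F T X)
  (hX : X ≤ J)
include a hc hM hYz f p hX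

/-- **the blocks of `V` in `⟨Y^J⟩`** -/
theorem blkIn {A : Subgroup G} (hA : Opt (cl Y J) A) (hAB : A ≤ B) (hAX : ¬ A ≤ o2 X)
    (h2 : K0.Mix.Two (VB Y B) X)
    (hred : Red (im (le_normalizer_cl Y J) (normalizer (B : Set G))) (ad (cl_cent hYz) (VB Y B))) :
    BlkIn (S : Subgroup G) (VB Y B) (normalizer (B : Set G)) F (le_normalizer_cl Y J) (cl_cent hYz) := by
  obtain ⟨x, -, m⟩ := a.exists_mxJ hc hM hYz f p hX hA hAB hAX h2 hred
  exact blkIn_of_mx m (wc_S_le a.wc) S.isPGroup' (a.syl_imJ hM)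

end one

section fam

variable {ι : Type v} {F T X : ι → Subgroup G}

/-- **the panels form a system** -/
theorem panSys (a : Adm S Y L B) (hc : IsCharacteristicTwoType G)
    (f : ∀ i, Fl S (VB Y B) (F i) (T i)) (p : ∀ i, Par (VB Y B) (F i) (T i) (X i))
    (h2 : ∀ i, K0.Mix.Two (VB Y B) (X i))
    (hY : ∀ i j, Y ≤ zc (o2 (normalizer (B : Set G) ⊔ (X i ⊔ X j))))
    (hff : ∀ i j, ¬ NotFF (cl Y (normalizer (B : Set G) ⊔ (X i ⊔ X j))))
    (hred : ∀ {U H : Subgroup G} (hH : H ≤ normalizer (U : Set G)) (hU : U ≤ centralizer (U : Set G)),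
      normalizer (B : Set G) ≤ H → VB Y B ≤ U → Red (im hH (normalizer (B : Set G))) (ad hU (VB Y B))) :
    PanSys (S : Subgroup G) (VB Y B) (normalizer (B : Set G)) F
      (fun i => cl Y (normalizer (B : Set G) ⊔ X i)) (fun i => normalizer (B : Set G) ⊔ X i) := by
  have hY1 : ∀ i, Y ≤ zc (o2 (normalizer (B : Set G) ⊔ X i)) := fun i => by
    have h1 := hY i i
    rwa [sup_idem] at h1
  have hff1 : ∀ i, ¬ NotFF (cl Y (normalizer (B : Set G) ⊔ X i)) := fun i => by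
    have h1 := hff i i
    rwa [sup_idem] at h1
  refine
    { hH := fun i => le_normalizer_cl _ _
      hU := fun i => cl_cent (hY1 i)
      VU := fun i => V_leJ le_sup_left
      MH := fun i => le_sup_left
      FV := fun i => (f i).le
      one := fun i => ?_
      two := fun i j => ?_ }
  · obtain ⟨A, hA, hAB, -, hAX⟩ := a.exists_optJ (ι := Unit) (F := fun _ => F i) (T := fun _ => T i)
      (X := fun _ => X i) hc (fun _ => f i) (fun _ => p i)
      (by rw [JB, iSup_const]; exact hY1 i) (by rw [JB, iSup_const]; exact hff1 i)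
    rw [JB, iSup_const] at hA
    exact a.blkIn hc le_sup_left (hY1 i) (f i) (p i) le_sup_right hA hAB hAX (h2 i)
      (hred _ _ le_sup_left (V_leJ le_sup_left))
  · have e : JB B (fun b : Bool => if b then X i else X j) = normalizer (B : Set G) ⊔ (X i ⊔ X j) := by
      rw [JB, iSup_bool_eq]
      rfl
    obtain ⟨A, hA, hAB, b, hAX⟩ := a.exists_optJ (ι := Bool) (F := fun b => if b then F i else F j)
      (T := fun b => if b then T i else T j) (X := fun b => if b then X i else X j) hc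
      (by rintro (_ | _); exacts [f j, f i]) (by rintro (_ | _); exacts [p j, p i])
      (by rw [e]; exact hY i j) (by rw [e]; exact hff i j)
    rw [e] at hA
    refine ⟨_, _, le_normalizer_cl Y _, cl_cent (hY i j), cl_mono _ (sup_le_sup_left le_sup_left _),
      cl_mono _ (sup_le_sup_left le_sup_right _), le_sup_left, ?_⟩
    rcases b with _ | _
    · exact Or.inr (a.blkIn hc le_sup_left (hY i j) (f j) (p j) (le_sup_right.trans le_sup_right) hA hAB hAX (h2 j)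
        (hred _ _ le_sup_left (V_leJ le_sup_left)))
    · exact Or.inl (a.blkIn hc le_sup_left (hY i j) (f i) (p i) (le_sup_left.trans le_sup_right) hA hAB hAX (h2 i)
        (hred _ _ le_sup_left (V_leJ le_sup_left)))

end fam

end Adm

end Cfsg.Agent.Omega.NO3b.Seed

end

end

-- merged: Cfsg.Agent.Mrg.Omega.NO3b.Seed.BetaTwo
section

section


/-!
# THEOREM BETA2 (bb #20914) for the chain with a seed `Y` (helper235's `BetaTwo/{Plug,Main}.lean`)

`Stage S Y L`, `(F, T, X)` a panel of `V = VL S Y L`, `Z ≤ F`, `H = nx S Y L X`, `V_H = cl Y H`.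

* `exists_bt` : `V_H` not FF and not in `O₂(C_G(Z))`: `BetaTwo.Bt V F T X (N_G(C_S(V))) C_S(V) V' F₁`,
  `V' = VL S Y (LH S Y H)`, with `⟨V^H⟩ ≤ V'`, `⟨V^H⟩ ≰ E`;
* `beta2` : at a member `L` of the chain every panel with `V_H` not FF has `V_H ≤ O₂(C_G(Z))`;
* `last_ff` : `V_H` is FF for every panel, if it is FF or not in `O₂(C_G(Z))`.
-/

set_option autoImplicit false
set_option linter.unusedSectionVars false

namespace Cfsg.Agent.Omega.NO3b.Seed

open Subgroup Cfsg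
open Cfsg.Agent.ZN (o2 zc zl)
open Cfsg.Agent.ZN.ChoiceBase hiding mem_zc
open Cfsg.Agent.Omega.NO3b.EZero (NotFF Par cent_symm cj_cent cl le_cl cj_le_cl cl_le le_normalizer_cl)
open Cfsg.Agent.Omega.NO3b.Alpha (Fl)
open Cfsg.Agent.Omega.NO3b.Exit (WW_pgroup pan sm)
open Cfsg.Agent.Omega.NO3b.BetaTwo (NoOver Bt noOver_of)
open Cfsg.Agent.Omega.NO3b.K0.Mix (Pan SM Two)
open Cfsg.Agent.Omega.NOne.Flat (EE WW NN)
open Cfsg.Agent.Omega.NOne.NearFF (c)

universe u

variable {G : Type u} [Group G] [Finite G] {S : Sylow 2 G} {Y L F T X : Subgroup G}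

/-- the lines are good -/
theorem good_cj (h : Stage S Y L) (hc : IsCharacteristicTwoType G) (g : G) (D : Subgroup G)
    (hD : D ≤ cj g (VL (S : Subgroup G) Y L)) (hD1 : D ≠ ⊥) :
    cj g (VL (S : Subgroup G) Y L) ≤ o2 (centralizer (D : Set G)) := by
  have h1 := h.good hc (D := cj g⁻¹ D) (by
    have h1 := cj_mono g⁻¹ hD
    rwa [cj_inv_cj] at h1) (fun h0 => hD1 (by
    have h1 := congrArg (cj g) h0
    rwa [cj_cj_inv, K0.cj_bot'] at h1))
  have h2 := cj_mono g h1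
  rwa [← Cfsg.Agent.ZN.ChoiceBase.pCore_cj, cj_centralizer, cj_cj_inv] at h2

section

variable (h : Stage S Y L) (hsd : Seed S Y L) (hc : IsCharacteristicTwoType G)
  (hne : zc (S : Subgroup G) ≠ ⊥)
  (f : Fl S (VL (S : Subgroup G) Y L) F T) (hZ : zc (S : Subgroup G) ≤ F)
  (p : Par (VL (S : Subgroup G) Y L) F T X)
include h hsd hc hne f hZ p

theorem exists_bt (hno : NoOver (VL (S : Subgroup G) Y L) X) (hn : NotFF (cl Y (nx (S : Subgroup G) Y L X)))
    (hV : ¬ cl Y (nx (S : Subgroup G) Y L X) ≤ o2 (centralizer (zc (S : Subgroup G) : Set G))) :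
    ∃ F₁ : Subgroup G, Bt (VL (S : Subgroup G) Y L) F T X
      (normalizer (((S : Subgroup G) ⊓ centralizer (VL (S : Subgroup G) Y L : Set G) : Subgroup G) : Set G))
      ((S : Subgroup G) ⊓ centralizer (VL (S : Subgroup G) Y L : Set G))
      (VL (S : Subgroup G) Y (LH (S : Subgroup G) Y (nx (S : Subgroup G) Y L X))) F₁ ∧
      ¬ cl (VL (S : Subgroup G) Y L) (nx (S : Subgroup G) Y L X) ≤
        EE (VL (S : Subgroup G) Y (LH (S : Subgroup G) Y (nx (S : Subgroup G) Y L X))) F₁ ∧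
      cl (VL (S : Subgroup G) Y L) (nx (S : Subgroup G) Y L X) ≤
        VL (S : Subgroup G) Y (LH (S : Subgroup G) Y (nx (S : Subgroup G) Y L X)) := by
  set V := VL (S : Subgroup G) Y L with hVd
  set H := nx (S : Subgroup G) Y L X with hH
  set V' := VL (S : Subgroup G) Y (LH (S : Subgroup G) Y H) with hV'
  have fr := h.fr hsd hc hne f hZ p
  have a := h.adm hc hne
  have l := h.lines hc hne
  have hOff := Final.stmtOff G
  have hle : cl Y H ≤ V' := fr.cl_le_V' a hn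
  obtain ⟨F₁, hF₁, hWB, hWX, -⟩ := fr.beta a hc hOff (S_ne hne) hn (fun h0 => hV (hle.trans h0))
  have root : Root S Y (LH (S : Subgroup G) Y H) := root_LH (fr.SH a) fr.Yz a.ZY hn
  have hy : NOne.Flat.Hyp V' F₁ := hyp_of hc root hF₁
  have pn := pan f l p fun g hg => Alpha.ti hc l g hg
  have hVH : cl V H ≤ cl Y H := by
    refine cl_le fun x hx => ?_
    have h1 := cj_mono x fr.V_le
    rwa [cj_eq_of_mem_normalizer (le_normalizer_cl _ _ hx)] at h1
  have hHV : cl Y H ≤ cl V H := cl_mono_left H (Y_le_V _ _ _)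
  have hUH : cl V X ≤ cl Y H := fr.U_le
  refine ⟨F₁, ?_, fun h0 => ?_, hVH.trans hle⟩
  · exact
      { pan := pn
        noov := K0.noOv FFBr.aStmt (f.sylX p) (f.isMinPar l p)
        sm := sm l hc pn
        two := h.two hsd hc hne f hZ p (Or.inr hV)
        hno := hno
        hy := hy
        hoff := hOff _ _ hy
        good := good_cj h hc
        WQ := by
          have h1 := h.toRoot.cs_V
          rw [h1]
          exact hWB
        WX := hWX
        UV := hUH.trans hle }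
  · -- `W` centralises `V_H`
    have h1 : cl Y H ≤ EE V' F₁ := hHV.trans h0
    have h2 := hy.off_of_le (hOff _ _ hy) h1
    have hW2 : IsPGroup 2 (WW V' F₁) := WW_pgroup _ _
    have hWH : WW V' F₁ ≤ normalizer (cl Y H : Set G) :=
      ((hWB.trans a.wc.le).trans (fr.SH a)).trans (le_normalizer_cl _ _)
    obtain ⟨e1, e2⟩ := hy.elem_W hle
    by_cases hcen : WW V' F₁ ≤ centralizer (cl Y H : Set G)
    · exact hWX (pn.le_o2_of_cent_U hW2 ((hWB.trans fr.BT).trans fr.syl.1) (hcen.trans (centralizer_le hUH)))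
    · have h3 := hn (WW V' F₁) hW2 hWH (fun s hs => by rw [pow_two]; exact e2 s hs)
        (fun s hs t ht => e1 s hs t ht) hcen
      exact absurd h2 (not_le.2 h3)

/-- **THEOREM BETA2** -/
theorem beta2 (hn : NotFF (cl Y (nx (S : Subgroup G) Y L X))) :
    cl Y (nx (S : Subgroup G) Y L X) ≤ o2 (centralizer (zc (S : Subgroup G) : Set G)) := by
  by_contra hV
  have l := h.lines hc hne
  have pn := pan f l p fun g hg => Alpha.ti hc l g hg
  have s := Exit.Bridge.Sit.of_fl hc l f p pn.U_comm pn.U_sq (le_cl _ _) (le_normalizer_cl _ _)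
  obtain ⟨F₁, t, h1, h2⟩ := exists_bt h hsd hc hne f hZ p (noOver_of s) hn hV
  have e : normalizer (((S : Subgroup G) ⊓ centralizer (VL (S : Subgroup G) Y L : Set G) : Subgroup G) : Set G) =
      ML (S : Subgroup G) Y L := by
    rw [h.toRoot.cs_V]
    rfl
  rw [e] at t
  exact t.false (le_refl (nx (S : Subgroup G) Y L X)) le_sup_left le_sup_right h1 h2

/-- `V_H` is FF, if it is FF or not in `O₂(C_G(Z))`. -/
theorem last_ff (hl : ¬ NotFF (cl Y (nx (S : Subgroup G) Y L X)) ∨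
      ¬ cl Y (nx (S : Subgroup G) Y L X) ≤ o2 (centralizer (zc (S : Subgroup G) : Set G))) :
    ¬ NotFF (cl Y (nx (S : Subgroup G) Y L X)) := by
  intro hn
  rcases hl with h1 | h1
  · exact h1 hn
  · exact h1 (beta2 h hsd hc hne f hZ p hn)

end

end Cfsg.Agent.Omega.NO3b.Seed

end

section


/-!
# The maximal admissible frame with a seed `Y` (`BasePt/LocStage.lean` for the seeded chain)

* `LocY S Y M B` : `B` is admissible (`Adm S Y M B`), `|VB Y B|` is maximal, `M ≤ N_G(B)`, `Seed S Y (N_G(B))`;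
  `exists_locY`;
* `LocY.stage` : `Stage S Y L` for `L = N_G(B)`; `WH_eq`, `ML_eq`, `VL_eq` : `WH S Y L = B`, `ML S Y L = L`,
  `VL S Y L = VB Y B`;
* `LocY.no_step` : there is no step of the chain from `L`;
* `LocY.last_ff` : `V_H = ⟨Y^H⟩` is FF for every panel, `H = ⟨L, X⟩`;
* `LocY.oz` : `Base.OZ S Y B (VB Y B)`;
* `LocY.min`, `LocY.loc`, `LocY.fr`, `LocY.two`, `LocY.ff` : `B` is minimal; for a panel over `Z`: `H` is local, the
  frame `Fr`, two noncentral factors, `V_H` is FF;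
* `LocY.le_normalizer_of_stage` : `Stage S Y J`, `L ≤ J` imply `J ≤ N_G(V)`;
* `LocY.red` : `O₂(L / C_L(V)) = 1`;
-/

set_option autoImplicit false
set_option linter.unusedSectionVars false

namespace Cfsg.Agent.Omega.NO3b.Seed

open Subgroup Cfsg
open Cfsg.Agent.ZN (o2 zc zl jj zj)
open Cfsg.Agent.ZN.ChoiceBase hiding mem_zc
open Cfsg.Agent.Omega.MinPar Cfsg.Agent.Omega.Frame Cfsg.Agent.Omega.FrameNOFF
open Cfsg.Agent.Omega.NO3b.EZero (NotFF Par cl le_cl cj_le_cl cl_le le_normalizer_cl)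
open Cfsg.Agent.Omega.NO3b.Alpha (Fl)
open Cfsg.Agent.Omega.NO3b.NoEmp (Lines)
open Cfsg.Agent.Omega.NO3b.Wc (WC StmtOff)
open Cfsg.Agent.Omega.NO3b.Exit (wc_S_le)
open Cfsg.Agent.Omega.NO3b.Exit.TDat (Red)
open Cfsg.Agent.Omega.NO3b.Exit.Bridge
open Cfsg.Agent.Omega.FFBr (XX pr im mem_im)
open Cfsg.Agent.Omega.NO3b.Base (OZ PanZ)

universe u

variable {G : Type u} [Group G] [Finite G]

/-- **The maximal admissible frame.** -/
structure LocY (S : Sylow 2 G) (Y M B : Subgroup G) : Prop where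
  adm : Adm S Y M B
  max : ∀ B' : Subgroup G, Adm S Y M B' → Nat.card (VB Y B') ≤ Nat.card (VB Y B)
  le : M ≤ normalizer (B : Set G)
  seed : Seed S Y (normalizer (B : Set G))

variable {S : Sylow 2 G} {Y M B : Subgroup G}

/-- `L` normalises every weakly closed subgroup of `S` in `C_S(⟨Y^L⟩)`. -/
theorem L_le_norm {L : Subgroup G} (h : Root S Y L) (hB : WC (S : Subgroup G) B)
    (hle : B ≤ QL (S : Subgroup G) Y L) : L ≤ normalizer (B : Set G) := by
  intro l hl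
  rw [mem_normalizer_iff_cj]
  refine hB.eq l ?_
  have h1 := cj_mono l hle
  have h2 : cj l (QL (S : Subgroup G) Y L) = QL (S : Subgroup G) Y L := cj_eq_of_mem_normalizer (h.cs hl)
  rw [h2] at h1
  exact h1.trans inf_le_left

/-- **The frame exists.** -/
theorem exists_locY (hG : IsCharacteristicTwoType G) (hne : zc (S : Subgroup G) ≠ ⊥) (h : Stage S Y M)
    (hsd : Seed S Y M) : ∃ B, LocY S Y M B := by
  obtain ⟨B, a, hmax⟩ := Set.exists_max_image {B : Subgroup G | Adm S Y M B}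
    (fun B => Nat.card (VB Y B)) (Set.toFinite _) ⟨_, h.adm hG hne⟩
  have hle := L_le_norm h.toRoot a.wc a.le
  exact ⟨B, a, fun B' a' => hmax B' a', hle, hsd.mono hle⟩

namespace LocY

/-- **The frame is a member of the chain.** -/
theorem stage (g : LocY S Y M B) : Stage S Y (normalizer (B : Set G)) where
  le := wc_S_le g.adm.wc
  ZY := g.adm.ZY
  comm := g.adm.comm
  sq := g.adm.sq
  nff := g.adm.nff
  cs := by
    have h := g.adm.cs
    rw [VB] at h
    rw [h]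
  low := g.adm.low

theorem QL_eq (g : LocY S Y M B) : QL (S : Subgroup G) Y (normalizer (B : Set G)) = B := g.adm.cs

/-- `WH S Y L = B` -/
theorem WH_eq (g : LocY S Y M B) : WH (S : Subgroup G) Y (normalizer (B : Set G)) = B :=
  le_antisymm ((WH_le _ _ _).trans g.QL_eq.le) (le_WH g.adm.wc g.QL_eq.ge)

/-- `ML S Y L = L` -/
theorem ML_eq (g : LocY S Y M B) : ML (S : Subgroup G) Y (normalizer (B : Set G)) = normalizer (B : Set G) := by
  rw [ML, g.WH_eq]

/-- `VL S Y L = V` -/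
theorem VL_eq (g : LocY S Y M B) : VL (S : Subgroup G) Y (normalizer (B : Set G)) = VB Y B := by
  rw [VL, g.ML_eq, VB]

/-- `nx S Y L X = ⟨L, X⟩` -/
theorem nx_eq (g : LocY S Y M B) (X : Subgroup G) :
    nx (S : Subgroup G) Y (normalizer (B : Set G)) X = normalizer (B : Set G) ⊔ X := by
  rw [nx, g.ML_eq]

/-- A root `L' ≥ M` with `V(L')` low is admissible. -/
theorem adm_of_root {L : Subgroup G} (h : Root S Y L) (hML : M ≤ L)
    (low : VL (S : Subgroup G) Y L ≤ o2 (centralizer (zc (S : Subgroup G) : Set G))) :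
    Adm S Y M (WH (S : Subgroup G) Y L) where
  ZY := h.ZY
  wc := wc_WH _ _ _
  le := (WH_le _ _ _).trans (inf_le_inf_left _ (centralizer_le (cl_mono _ hML)))
  cs := h.cs_V
  comm := h.V_comm
  sq := h.V_sq
  nff := h.V_nff
  low := low

/-- **Maximality of `|V|`.** -/
theorem le_of_root (g : LocY S Y M B) {L : Subgroup G} (h : Root S Y L) (hML : M ≤ L)
    (low : VL (S : Subgroup G) Y L ≤ o2 (centralizer (zc (S : Subgroup G) : Set G))) :
    Nat.card (VL (S : Subgroup G) Y L) ≤ Nat.card (VB Y B) :=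
  g.max _ (adm_of_root h hML low)

/-- Maximality of `V`. -/
theorem VL_eq_of_root (g : LocY S Y M B) {L : Subgroup G} (h : Root S Y L) (hML : M ≤ L)
    (low : VL (S : Subgroup G) Y L ≤ o2 (centralizer (zc (S : Subgroup G) : Set G)))
    (hV : VB Y B ≤ VL (S : Subgroup G) Y L) : VL (S : Subgroup G) Y L = VB Y B :=
  (eq_of_le_of_card_ge hV (g.le_of_root h hML low)).symm

theorem lines (g : LocY S Y M B) : Lines S B (VB Y B) := g.adm.lines

/-- **There is no step from `L`.** -/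
theorem no_step (g : LocY S Y M B) (hG : IsCharacteristicTwoType G) (hne : zc (S : Subgroup G) ≠ ⊥)
    (F T X : Subgroup G) : ¬ Step S Y (normalizer (B : Set G)) F T X := by
  intro s
  have h1 : Stage S Y (nx (S : Subgroup G) Y (normalizer (B : Set G)) X) :=
    s.next g.stage.toRoot (g.stage.lines hG hne)
  have h2 := s.lt h1.toRoot
  have h3 : M ≤ nx (S : Subgroup G) Y (normalizer (B : Set G)) X := by
    refine le_trans ?_ le_sup_left
    rw [g.ML_eq]
    exact g.le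
  have h4 := g.le_of_root h1.toRoot h3 (h1.low_V hG hne)
  rw [g.VL_eq] at h2
  exact h2.ne (eq_of_le_of_card_ge h2.le h4)

/-- **LEMMA OZ**'s frame -/
theorem oz (g : LocY S Y M B) : OZ S Y B (VB Y B) where
  lines := g.adm.lines
  cs := g.adm.cs
  eq := rfl
  zZ := g.adm.ZY
  max := fun B' hle hwc hcs hcm hsq hnf hlow hV => by
    have a : Adm S Y M B' := ⟨g.adm.ZY, hwc, hle.trans g.adm.le, hcs, hcm, hsq, hnf, hlow⟩
    exact (eq_of_le_of_card_ge hV (g.max B' a)).ge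

/-- **Maximality for a group `J ≥ L`** with `C_S(V_J)` normal in `J`: if `V_J = ⟨Y^J⟩` is not FF and
`V_J ≤ O₂(C_G(Z))` then `J ≤ N_G(V)`. -/
theorem le_normalizer_of_stage (g : LocY S Y M B) (hG : IsCharacteristicTwoType G)
    (hne : zc (S : Subgroup G) ≠ ⊥) {J : Subgroup G} (hJ : Stage S Y J)
    (hLJ : normalizer (B : Set G) ≤ J) : J ≤ normalizer (VB Y B : Set G) := by
  have hV : VB Y B ≤ VL (S : Subgroup G) Y J := (cl_mono Y hLJ).trans hJ.cl_le_V
  have h1 := g.VL_eq_of_root hJ.toRoot (g.le.trans hLJ) (hJ.low_V hG hne) hV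
  rw [← h1]
  exact hJ.L_le.trans (ML_le_norm_V _ _ _)

/-- `⟨L, C_G(Z)⟩` is nonlocal. -/
theorem nonLoc (g : LocY S Y M B) (hn : NonLoc M (CZ (S : Subgroup G))) :
    NonLoc (normalizer (B : Set G)) (CZ (S : Subgroup G)) :=
  fun U hU h1 h2 => hn U hU (g.le.trans h1) h2

/-- `C_G(Z)` does not normalise `V`. -/
theorem nz (g : LocY S Y M B) (hne : zc (S : Subgroup G) ≠ ⊥) (hn : NonLoc M (CZ (S : Subgroup G))) :
    ¬ centralizer (zc (S : Subgroup G) : Set G) ≤ normalizer (VB Y B : Set G) := by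
  have h1 := Root.nle g.stage.toRoot g.le hn hne
  rwa [g.VL_eq] at h1

/-- The panels exist. -/
theorem exists_panel (g : LocY S Y M B) (hG : IsCharacteristicTwoType G) (hne : zc (S : Subgroup G) ≠ ⊥)
    (hn : NonLoc M (CZ (S : Subgroup G))) :
    ∃ F T X, Fl S (VB Y B) F T ∧ zc (S : Subgroup G) ≤ F ∧ Par (VB Y B) F T X := by
  have h1 := g.stage.exists_panel hG hne (Root.nle g.stage.toRoot g.le hn hne)
  rwa [g.VL_eq] at h1

/-- At a panel `V_H` is FF or not in `O₂(C_G(Z))`. -/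
theorem or_of_panel (g : LocY S Y M B) (hG : IsCharacteristicTwoType G) (hne : zc (S : Subgroup G) ≠ ⊥)
    {F T X : Subgroup G} (f : Fl S (VL (S : Subgroup G) Y (normalizer (B : Set G))) F T)
    (hZ : zc (S : Subgroup G) ≤ F) (p : Par (VL (S : Subgroup G) Y (normalizer (B : Set G))) F T X) :
    ¬ NotFF (cl Y (nx (S : Subgroup G) Y (normalizer (B : Set G)) X)) ∨
      ¬ cl Y (nx (S : Subgroup G) Y (normalizer (B : Set G)) X) ≤
        o2 (centralizer (zc (S : Subgroup G) : Set G)) :=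
  last_or hG hne g.seed g.stage (g.no_step hG hne) f hZ p

/-- **`V_H` is FF for every panel.** -/
theorem last_ff (g : LocY S Y M B) (hG : IsCharacteristicTwoType G) (hne : zc (S : Subgroup G) ≠ ⊥)
    {F T X : Subgroup G} (f : Fl S (VL (S : Subgroup G) Y (normalizer (B : Set G))) F T)
    (hZ : zc (S : Subgroup G) ≤ F) (p : Par (VL (S : Subgroup G) Y (normalizer (B : Set G))) F T X) :
    ¬ NotFF (cl Y (nx (S : Subgroup G) Y (normalizer (B : Set G)) X)) :=
  Seed.last_ff g.stage g.seed hG hne f hZ p (g.or_of_panel hG hne f hZ p)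

/-- `B` is minimal admissible. -/
theorem min (g : LocY S Y M B) (B' : Subgroup G) (a' : Adm S Y M B') (hle : B' ≤ B) : B' = B := by
  have h1 : normalizer (B : Set G) ≤ normalizer (B' : Set G) := by
    intro x hx
    rw [mem_normalizer_iff_cj]
    refine a'.wc.eq x ?_
    have h2 := cj_mono x hle
    rw [cj_eq_of_mem_normalizer hx] at h2
    exact h2.trans g.adm.wc.le
  have h2 : VB Y B = VB Y B' := eq_of_le_of_card_ge (cl_mono _ h1) (g.max B' a')
  rw [← a'.cs, ← g.adm.cs, h2]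

/-- Every panel is local. -/
theorem loc (g : LocY S Y M B) (hG : IsCharacteristicTwoType G) {F T X : Subgroup G} (f : Fl S (VB Y B) F T)
    (hZ : zc (S : Subgroup G) ≤ F) (p : Par (VB Y B) F T X) :
    ∃ R : Subgroup G, R ≠ ⊥ ∧ IsPGroup 2 R ∧ normalizer (B : Set G) ⊔ X ≤ normalizer (R : Set G) := by
  obtain ⟨R, h1, h2, h3, h4⟩ := NO3b.AlphaEnd.exists_loc f g.adm.lines FFBr.aStmt FFBr.ffthm hG hZ p
  rw [g.adm.cs] at h3
  exact ⟨R, h1, h2, sup_le h3 h4⟩

/-- The frame `Fr` for a panel. -/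
theorem fr (g : LocY S Y M B) (hG : IsCharacteristicTwoType G) (hne : zc (S : Subgroup G) ≠ ⊥)
    {F T X : Subgroup G} (f : Fl S (VB Y B) F T) (hZ : zc (S : Subgroup G) ≤ F) (p : Par (VB Y B) F T X) :
    Fr S Y B (normalizer (B : Set G) ⊔ X) X T := by
  rw [← g.VL_eq] at f p
  have h1 := g.stage.fr g.seed hG hne f hZ p
  rwa [g.WH_eq, g.nx_eq] at h1

/-- **(C2)**: two noncentral chief factors of `X` in `⟨V^X⟩`. -/
theorem two (g : LocY S Y M B) (hG : IsCharacteristicTwoType G) (hne : zc (S : Subgroup G) ≠ ⊥)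
    {F T X : Subgroup G} (f : Fl S (VB Y B) F T) (hZ : zc (S : Subgroup G) ≤ F) (p : Par (VB Y B) F T X) :
    K0.Mix.Two (VB Y B) X := by
  rw [← g.VL_eq] at f p ⊢
  exact g.stage.two g.seed hG hne f hZ p (g.or_of_panel hG hne f hZ p)

/-- **`V_H` is FF**, `H = ⟨N_G(B), X⟩`. -/
theorem ff (g : LocY S Y M B) (hG : IsCharacteristicTwoType G) (hne : zc (S : Subgroup G) ≠ ⊥)
    {F T X : Subgroup G} (f : Fl S (VB Y B) F T) (hZ : zc (S : Subgroup G) ≤ F) (p : Par (VB Y B) F T X) :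
    ¬ NotFF (cl Y (normalizer (B : Set G) ⊔ X)) := by
  rw [← g.VL_eq] at f p
  have h1 := g.last_ff hG hne f hZ p
  rwa [g.nx_eq] at h1

/-- **(RED)** -/
theorem red (g : LocY S Y M B) {U H : Subgroup G} (hN : H ≤ normalizer (U : Set G))
    (hU : U ≤ centralizer (U : Set G)) (hG : IsCharacteristicTwoType G) (hK : Core (S : Subgroup G) Y)
    (hpar : ∀ R, IsParS (S : Subgroup G) R → R ≤ M) (hM : normalizer (B : Set G) ≤ H) (hVU : VB Y B ≤ U) :
    Red (im hN (normalizer (B : Set G))) (ad hU (VB Y B)) := by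
  have h1 := Seed.red hN hU g.stage.toRoot hG hK (fun R hR => by rw [g.ML_eq]; exact (hpar R hR).trans g.le)
    (by rw [g.ML_eq]; exact hM) (by rw [g.VL_eq]; exact hVU)
  rwa [g.ML_eq, g.VL_eq] at h1

end LocY

end Cfsg.Agent.Omega.NO3b.Seed

end

section


/-!
# The maximal admissible frame for the case (G) of the cut of GammaFF

`CaseG S P`, `Q = O₂(P)`, `X₀ = Ω₁(Z(Q))`, `M₀ = N_G(Q) ≥ P'` for all `P' ∈ P*(S)`.

* `CaseG.stage_M0`, `CaseG.seed_M0` : `Stage S X₀ M₀`, `Seed S X₀ M₀`;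
* `CaseG.exists_locY` : `LocY S X₀ M₀ B` for some `B` (`Seed/Max.lean`).
-/

set_option autoImplicit false
set_option linter.unusedSectionVars false

namespace Cfsg.Agent.Omega.NO3S.Level

open Subgroup Cfsg Cfsg.Agent.ZN Cfsg.Agent.ZN.ChoiceBase Cfsg.Agent.Omega.MinPar Cfsg.Agent.Omega.Frame
open Cfsg.Agent.Omega.FrameNOFF (CZ)
open Cfsg.Agent.Omega.NO3b.EZero (cl le_cl cj_le_cl cl_le le_normalizer_cl cent_symm)
open Cfsg.Agent.Omega.NO3b

universe u

variable {G : Type u} [Group G] [Finite G] {S : Sylow 2 G} {P : Subgroup G}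

namespace CaseG

variable (h : CaseG S P)
include h

theorem cl_M0 : cl (zc (o2 P)) (M0 (S : Subgroup G)) = zc (o2 P) := by
  rw [h.M0_eq]
  exact Seed.cl_eq (MinSimple.VModule.normalizer_le_normalizer_zc _)

/-- `Stage S X₀ M₀` -/
theorem stage_M0 : Seed.Stage S (zc (o2 P)) (M0 (S : Subgroup G)) where
  le := h.pss.par.isLoc.le.trans (Level.par_le h.pss.par)
  ZY := h.seed.ZY
  comm := by rw [h.cl_M0, ← h.X0_eq]; exact X0_comm _
  sq := by rw [h.cl_M0, ← h.X0_eq]; exact X0_sq _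
  nff := by rw [h.cl_M0]; exact h.nffY
  cs := by rw [h.cl_M0, h.cs, h.M0_eq]
  low := by rw [h.cl_M0]; exact h.linesG.low

theorem seed_M0 : Seed.Seed S (zc (o2 P)) (M0 (S : Subgroup G)) := h.seed.mono (Level.par_le h.pss.par)

/-- **The maximal admissible frame** of the case (G). -/
theorem exists_locY : ∃ B, Seed.LocY S (zc (o2 P)) (M0 (S : Subgroup G)) B :=
  Seed.exists_locY h.ctx.char2 h.zc_ne h.stage_M0 h.seed_M0

end CaseG

end Cfsg.Agent.Omega.NO3S.Level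

end

end

-- merged: Cfsg.Agent.Mrg.Omega.NO3b.BasePt.Red
section

/-!
# NotFFG (NO-3L), the base point: `O₂(M) = 1` on `V` (helper957)

`Red M ⊤` (`TDat.Red`, `Exit/TightDat.lean`): a normal subgroup of `M` which acts on `W` as a 2-group acts trivially.

* `PB.red` : `k ∈ K`, trivial on `[W, Y]`, `[W, k] ≤ [W, Y]`: `k = 1`;
* `red_top` : `Red (im hN M₀) ⊤` on `MU hV`, from `S` Sylow in `M₀`, `V = ⟨Z^M₀⟩`, `Z ≤ C_V(S)`.
-/

set_option autoImplicit false

namespace Cfsg.Agent.Omega.NO3b.BasePt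

open Subgroup
open Cfsg.Agent.ZN.ChoiceSit (Syl)
open Cfsg.Agent.Omega.NO3b.Exit Cfsg.Agent.Omega.NO3b.Exit.Ten Cfsg.Agent.Omega.NO3b.Exit.Descent
open Cfsg.Agent.Omega.NO3b.Exit.TDat (Red)
open Cfsg.Agent.Omega.NO3b.Exit.Bridge
open Cfsg.Agent.Omega.FFBr (XX pr im)
open Cfsg.Agent.Omega.FF.Basic (fx)
open scoped Pointwise

universe u v

section

variable {Γ : Type u} [Group Γ] {W : Type v} [AddCommGroup W] [DistribMulAction Γ W]

theorem smul_cm_sub {Y : Subgroup Γ} {y : Γ} (hy : y ∈ Y) (w : W) : y • w - w ∈ cm W Y :=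
  AddSubgroup.subset_closure ⟨y, hy, w, rfl⟩

/-- `K` normalises `[W, Y]` -/
theorem PB.smul_mem {M : Subgroup Γ} {F : AddSubgroup W} {Y K : Subgroup Γ} (p : PB W M F Y K) {k : Γ} (hk : k ∈ K)
    {v : W} (hv : v ∈ cm W Y) : k • v ∈ cm W Y := by
  have h1 := AddSubgroup.smul_mem_pointwise_smul v k (cm W Y) hv
  rwa [p.stab k hk] at h1

/-- **`O₂(M) = 1` for one panel** -/
theorem PB.red [Finite Γ] {M : Subgroup Γ} {F : AddSubgroup W} {Y K : Subgroup Γ} (p : PB W M F Y K)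
    (hr : Red M (⊤ : AddSubgroup W)) (faith : ∀ g : Γ, (∀ w : W, g • w = w) → g = 1) (two : ∀ w : W, w + w = 0)
    {k : Γ} (hk : k ∈ K) (h1 : ∀ v ∈ cm W Y, k • v = v) (h2 : ∀ w : W, k • w - w ∈ cm W Y) : k = 1 := by
  have hK : Red K (⊤ : AddSubgroup W) := hr.normal (fun _ _ _ _ => trivial) p.KM p.nK
  let N : Subgroup Γ :=
    { carrier := {n | n ∈ K ∧ (∀ v ∈ cm W Y, n • v = v) ∧ ∀ w : W, n • w - w ∈ cm W Y}
      one_mem' := ⟨one_mem _, fun v _ => one_smul _ v, fun w => by rw [one_smul, sub_self]; exact zero_mem _⟩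
      mul_mem' := by
        rintro a b ⟨ha, ha1, ha2⟩ ⟨hb, hb1, hb2⟩
        refine ⟨mul_mem ha hb, fun v hv => by rw [mul_smul, hb1 v hv, ha1 v hv], fun w => ?_⟩
        have e : (a * b) • w - w = (a • (b • w) - b • w) + (b • w - w) := by rw [mul_smul]; abel
        rw [e]
        exact add_mem (ha2 _) (hb2 _)
      inv_mem' := by
        rintro a ⟨ha, ha1, ha2⟩
        refine ⟨inv_mem ha, fun v hv => by rw [inv_smul_eq_iff, ha1 v hv], fun w => ?_⟩
        have e : a⁻¹ • w - w = -(a • (a⁻¹ • w) - a⁻¹ • w) := by rw [smul_inv_smul]; abel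
        rw [e]
        exact neg_mem (ha2 _) }
  refine faith k fun w => hK N (fun n hn => hn.1) ?_ ?_ k ⟨hk, h1, h2⟩ w trivial
  · rintro g hg n ⟨hn, hn1, hn2⟩
    refine ⟨mul_mem (mul_mem hg hn) (inv_mem hg), fun v hv => ?_, fun w => ?_⟩
    · rw [mul_smul, mul_smul, hn1 _ (p.smul_mem (inv_mem hg) hv), smul_inv_smul]
    · have e : (g * n * g⁻¹) • w - w = g • (n • (g⁻¹ • w) - g⁻¹ • w) := by
        rw [smul_sub, mul_smul, mul_smul, smul_inv_smul]
      rw [e]
      exact p.smul_mem hg (hn2 _)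
  · rintro n ⟨hn, hn1, hn2⟩
    refine ⟨1, fun w _ => ?_⟩
    have e3 := hn1 _ (hn2 w)
    rw [smul_sub, sub_eq_sub_iff_add_eq_add, ← two_smul ℕ (n • w), two_smul, two] at e3
    rw [pow_one, pow_two, mul_smul]
    have e4 : n • n • w = -w := eq_neg_of_add_eq_zero_left e3
    rw [e4]
    exact neg_eq_of_add_eq_zero_left (two w)

end

section

variable {G : Type u} [Group G] [Finite G] {V N M₀ S Z : Subgroup G} {hN : N ≤ normalizer (V : Set G)}
  {hV : V ≤ centralizer (V : Set G)}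

/-- `O₂(M₀ / C(V)) = 1` -/
theorem red_top (hMN : M₀ ≤ N) (hS : Syl S M₀) (hZV : Z ≤ V) (hZ : S ≤ centralizer (Z : Set G))
    (hgen : ∀ W : Subgroup G, Z ≤ W → M₀ ≤ normalizer (W : Set G) → V ≤ W) :
    Red (im hN M₀) (⊤ : AddSubgroup (MU hV)) := by
  have h1 := LocBar.red_im (hc := hV) hN hMN hS le_rfl (hMN.trans hN) hZV hZ hgen
  rwa [ad_U] at h1

end

end Cfsg.Agent.Omega.NO3b.BasePt

end

-- merged: Cfsg.Agent.Mrg.Omega.NO3b.Seed.LocFam
section

section


/-!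
# Families of panels at the maximal admissible frame with a seed `Y` (`BetaTwo/LocG.lean`)

`LocY S Y M B`, `V = VB Y B`, `(F i, T i, X i)` a nonempty family of panels of `V` over `Z`, `J = JB B X =
⟨N_G(B), X i⟩`:

* `LocY.loc_fam`, `LocY.isLoc_fam` : `J` is 2-local; `LocY.Yz_fam` : `Y ≤ Ω₁(Z(O₂(J)))`;
* `LocY.gam_fam` : `⟨Y^J⟩` is FF.
-/

set_option autoImplicit false
set_option linter.unusedSectionVars false

namespace Cfsg.Agent.Omega.NO3b.Seed

open Subgroup Cfsg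
open Cfsg.Agent.ZN (o2 zc zl)
open Cfsg.Agent.Omega.MinPar (IsLoc)
open Cfsg.Agent.Omega.NO3b.EZero (NotFF Par cl)
open Cfsg.Agent.Omega.NO3b.Alpha (Fl)
open Cfsg.Agent.Omega.NO3b.BetaTwo (JB NB_le_JB X_le_JB)

universe u v

namespace LocY

variable {G : Type u} [Group G] [Finite G] {S : Sylow 2 G} {Y M B : Subgroup G}

/-- `Y ≤ Ω₁(Z(O₂(J)))` for every local `J ≥ N_G(B)`. -/
theorem Yz (g : LocY S Y M B) {J : Subgroup G} (hJ : normalizer (B : Set G) ≤ J)
    (hloc : ∃ R : Subgroup G, R ≠ ⊥ ∧ IsPGroup 2 R ∧ J ≤ normalizer (R : Set G)) : Y ≤ zc (o2 J) := by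
  obtain ⟨R, hR, hR2, hJR⟩ := hloc
  exact g.seed.le _ (MinPar.isLoc_of_le_normalizer S (g.stage.le.trans hJ) hR2 hR hJR) hJ

variable {ι : Type v} [Nonempty ι] (g : LocY S Y M B) (hG : IsCharacteristicTwoType G)
  (hne : zc (S : Subgroup G) ≠ ⊥) (F T X : ι → Subgroup G)
  (f : ∀ i, Fl S (VB Y B) (F i) (T i)) (hZ : ∀ i, zc (S : Subgroup G) ≤ F i)
  (p : ∀ i, Par (VB Y B) (F i) (T i) (X i))
include g hG hne f hZ p

/-- every family of panels over `Z` is local -/
theorem loc_fam : ∃ R : Subgroup G, R ≠ ⊥ ∧ IsPGroup 2 R ∧ JB B X ≤ normalizer (R : Set G) :=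
  Seed.loc_fam g.adm hG f p fun i => g.two hG hne (f i) (hZ i) (p i)

theorem isLoc_fam : IsLoc (S : Subgroup G) (JB B X) := by
  obtain ⟨R, hR, hR2, hJR⟩ := g.loc_fam hG hne F T X f hZ p
  exact MinPar.isLoc_of_le_normalizer S (S_le_JB g.adm) hR2 hR hJR

theorem Yz_fam : Y ≤ zc (o2 (JB B X)) := g.Yz NB_le_JB (g.loc_fam hG hne F T X f hZ p)

/-- **every family of panels over `Z` has `⟨Y^J⟩` FF** -/
theorem gam_fam : ¬ NotFF (cl Y (JB B X)) :=
  ff_adm g.adm hG f p (g.Yz_fam hG hne F T X f hZ p) (g.loc_fam hG hne F T X f hZ p)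
    (fun i => g.two hG hne (f i) (hZ i) (p i)) (S_ne hne) g.min

end LocY

end Cfsg.Agent.Omega.NO3b.Seed

end

section


/-!
# The chain with a seed `Y`: the blocks of `V` (#20856 (2), #22211)

`LocY S Y M B` (`Seed/Max.lean`), `V = VB Y B`, `L = N_G(B)`.

* `LocY.exists_fam` : the set `𝒴` of all blocks, `V = Σ [V, Y'] + C_V(RR 𝒴)`, the flats of the panels over `Z` are
  `C_V(Q)`, `Q ≤ Y' ∈ 𝒴`.
-/

set_option autoImplicit false

namespace Cfsg.Agent.Omega.NO3b.Seed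

open Subgroup Cfsg
open Cfsg.Agent.ZN (o2 zc zl jj zj)
open Cfsg.Agent.ZN.ChoiceBase hiding mem_zc
open Cfsg.Agent.Omega.MinPar (IsParS IsLoc isLoc_of_le_normalizer)
open Cfsg.Agent.Omega.NO3b.EZero (NotFF Par cl le_cl cj_le_cl cl_le le_normalizer_cl)
open Cfsg.Agent.Omega.NO3b.Alpha (Fl)
open Cfsg.Agent.Omega.NO3b.Exit (wc_S_le)
open Cfsg.Agent.Omega.NO3b.Exit.Bridge
open Cfsg.Agent.Omega.NO3b.Exit.TDat (Red)
open Cfsg.Agent.Omega.NO3b.BetaTwo (JB)
open Cfsg.Agent.Omega.NO3b.BasePt (BlkIn PanSys Fam RR sm)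
open Cfsg.Agent.Omega.NO3b.BasePt.FamG (BU)
open Cfsg.Agent.Omega.FFBr (XX im)
open Cfsg.Agent.Omega.FF.Basic (fx)

universe u v

variable {G : Type u} [Group G]

theorem BU_of {S V M₀ F U H : Subgroup G} {hH : H ≤ normalizer (U : Set G)} {hU : U ≤ centralizer (U : Set G)}
    (hVU : V ≤ U) (hMH : M₀ ≤ H) (b : BlkIn S V M₀ F hH hU) : BU V M₀ F U := by
  obtain ⟨BB, Lw, C, x, hV, b⟩ := b
  exact ⟨hVU, H, hH, hU, hV, hMH, _, _, _, _, _, _, _, b⟩

variable [Finite G] {S : Sylow 2 G} {Y M B : Subgroup G}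

namespace LocY

/-- **The blocks of `V`.** -/
theorem exists_fam (g : LocY S Y M B) (hG : IsCharacteristicTwoType G) (hne : zc (S : Subgroup G) ≠ ⊥)
    (hK : Core (S : Subgroup G) Y) (hpar : ∀ R, IsParS (S : Subgroup G) R → R ≤ M)
    {N : Subgroup G} (hN : N ≤ normalizer (VB Y B : Set G)) (hV : VB Y B ≤ centralizer (VB Y B : Set G))
    (hMN : normalizer (B : Set G) ≤ N) :
    ∃ 𝒴 : Set (Subgroup (XX hN)), Fam (MU hV) (im hN (normalizer (B : Set G))) 𝒴 ∧
      (∀ w : MU hV, ∃ a ∈ sm (MU hV) 𝒴, ∃ c : MU hV, (∀ r ∈ RR 𝒴, r • c = c) ∧ w = a + c) ∧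
      ∀ F T X : Subgroup G, Fl S (VB Y B) F T → zc (S : Subgroup G) ≤ F → Par (VB Y B) F T X →
        ∃ Y' ∈ 𝒴, ∃ Q ≤ Y', fx (MU hV) Q = ad hV F := by
  let ι := {t : Subgroup G × Subgroup G × Subgroup G // Fl S (VB Y B) t.1 t.2.1 ∧
    zc (S : Subgroup G) ≤ t.1 ∧ Par (VB Y B) t.1 t.2.1 t.2.2}
  have hJ : ∀ X X' : Subgroup G, JB B (fun b : Bool => if b then X else X') = normalizer (B : Set G) ⊔ (X ⊔ X') := by
    intro X X'
    rw [JB, iSup_bool_eq]
    rfl
  have ps := g.adm.panSys (ι := ι) (F := fun t => t.1.1) (T := fun t => t.1.2.1) (X := fun t => t.1.2.2) hG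
    (fun t => t.2.1) (fun t => t.2.2.2) (fun t => g.two hG hne t.2.1 t.2.2.1 t.2.2.2) (by
      rintro ⟨⟨F, T, X⟩, f, hZ, p⟩ ⟨⟨F', T', X'⟩, f', hZ', p'⟩
      have h1 := g.Yz_fam hG hne (ι := Bool) (fun b => if b then F else F') (fun b => if b then T else T')
        (fun b => if b then X else X') (by rintro (_ | _); exacts [f', f]) (by rintro (_ | _); exacts [hZ', hZ])
        (by rintro (_ | _); exacts [p', p])
      rwa [hJ] at h1)
    (by
      rintro ⟨⟨F, T, X⟩, f, hZ, p⟩ ⟨⟨F', T', X'⟩, f', hZ', p'⟩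
      have h1 := g.gam_fam hG hne (ι := Bool) (fun b => if b then F else F') (fun b => if b then T else T')
        (fun b => if b then X else X') (by rintro (_ | _); exacts [f', f]) (by rintro (_ | _); exacts [hZ', hZ])
        (by rintro (_ | _); exacts [p', p])
      rwa [hJ] at h1)
    (fun hH hU hM hVU => g.red hH hU hG hK hpar hM hVU)
  have hred : Red (im hN (normalizer (B : Set G))) (⊤ : AddSubgroup (MU hV)) := by
    have h1 := g.red hN hV hG hK hpar hMN le_rfl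
    rwa [ad_U] at h1
  obtain ⟨𝒴, h1, h2, h3⟩ := BasePt.FamG.exists_fam (hN := hN) (hV := hV) g.adm.sq hred hMN g.adm.nff (ι := ι) (fun t => t.1.1)
    (fun t => cl Y (normalizer (B : Set G) ⊔ t.1.2.2)) ps.FV
    (fun t h0 => t.2.1.nle (by rw [h0]; exact centralizer_le_normalizer _))
    (fun t => BU_of (ps.VU t) (ps.MH t) (ps.one t))
    (fun t t' => by
      obtain ⟨U', H', hH', hU', h1, h2, h3, h4⟩ := ps.two t t'
      exact ⟨U', h1, h2, h4.imp (BU_of ((ps.VU t).trans h1) h3) (BU_of ((ps.VU t).trans h1) h3)⟩)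
  exact ⟨𝒴, h1, h2, fun F T X f hZ p => h3 ⟨(F, T, X), f, hZ, p⟩⟩

end LocY

end Cfsg.Agent.Omega.NO3b.Seed

end

section


/-!
# GammaFF, the case (G) = (S4) (#20856 (2)): the end

`CaseG S P`, `LocY S X₀ M₀ B` (`Seed/MaxG.lean`), the blocks of `V = VB X₀ B` (`Seed/FamG.lean`), the base point over
`M = P` (`BasePt/EndFam.lean`).

* `CaseG.exists_baseFlag` : there is a base flag;
* `CaseG.false_of` : (ML) and the exact end refute the case (G); `gamG_of` : `GamG K`.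
-/

set_option autoImplicit false

namespace Cfsg.Agent.Omega.NO3S.Level

open Subgroup Cfsg Cfsg.Agent.ZN Cfsg.Agent.ZN.ChoiceBase Cfsg.Agent.Omega.MinPar Cfsg.Agent.Omega.Frame
open Cfsg.Agent.Omega.ML.Final (MLK)
open Cfsg.Agent.Omega.NO3b
open Cfsg.Agent.Omega.NO3b.BasePt (BaseFlag ExactEndS baseFlag_of_fam)
open Cfsg.Agent.Omega.NO3b.EZero (le_normalizer_cl)

universe u

/-- **The base flag in the case (G).** -/
theorem CaseG.exists_baseFlag {G : Type u} [Group G] [Finite G] {S : Sylow 2 G} {P : Subgroup G} (h : CaseG S P) :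
    ∃ S₁ Z₁ V₁ Lam : Subgroup G, BaseFlag S₁ Z₁ V₁ Lam := by
  obtain ⟨B, g⟩ := h.exists_locY
  have hG := h.ctx.char2
  have hSne := h.ctx.sylow_ne_bot S
  obtain ⟨𝒴, Fa, gas, fl⟩ := g.exists_fam hG h.zc_ne h.core (fun R hR => Level.par_le hR)
    (N := normalizer (B : Set G)) (le_normalizer_cl _ _) g.adm.comm le_rfl
  exact ⟨_, _, _, _, baseFlag_of_fam g.adm.lines le_rfl Fa gas fl g.adm.cs
    (fun _ _ p => p.exists_optY g.oz hG (Final.stmtOff G) hSne) hG hSne (M := P)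
    ((Level.par_le h.pss.par).trans g.le) (le_sSup ⟨h.pss.par, le_rfl⟩) h.pss.nonLoc⟩

/-- **The case (G) does not occur.** -/
theorem CaseG.false_of {G : Type u} [Group G] [Finite G] {S : Sylow 2 G} {P : Subgroup G} (h : CaseG S P)
    (ml : MLK.{u, u}) (hE : ExactEndS.{u}) : False := by
  obtain ⟨S₁, Z₁, V₁, Lam, hb⟩ := h.exists_baseFlag
  exact hb.false_of h.ctx ml hE

/-- **`GamG K`** = (S4). -/
theorem gamG_of {K : Cls.{u}} (ml : MLK.{u, u}) (hE : ExactEndS.{u}) : GamG K :=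
  fun _ _ _ _ _ _ h => (h.false_of ml hE).elim

end Cfsg.Agent.Omega.NO3S.Level

end

section


/-!
# The panels of the maximal frame `LocY` as a system `PanSys`

`g : LocY S Y M B`, `V = VB Y B`, `(F i, T i, X i)` panels of `V` over `Z`, `J = JB B X = ⟨N_G(B), X i⟩`:

* `LocY.sys_loc` : `J` is 2-local; `LocY.sys_isLoc`, `LocY.sys_Y_le` : `Y ≤ Ω₁(Z(O₂(J)))`; `LocY.sys_Y_le_pair`;
* `LocY.sys_pan` : the panels form a `PanSys` if `⟨Y^J⟩` is FF for all pairs.
-/

set_option autoImplicit false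
set_option linter.unusedSectionVars false

namespace Cfsg.Agent.Omega.NO3b.Seed

open Subgroup Cfsg
open Cfsg.Agent.ZN (o2 zc zl jj zj)
open Cfsg.Agent.ZN.ChoiceBase hiding mem_zc
open Cfsg.Agent.Omega.MinPar Cfsg.Agent.Omega.Frame Cfsg.Agent.Omega.FrameNOFF
open Cfsg.Agent.Omega.NO3b.EZero (NotFF Par cl le_cl cj_le_cl cl_le le_normalizer_cl)
open Cfsg.Agent.Omega.NO3b.Alpha (Fl)
open Cfsg.Agent.Omega.NO3b.Exit (wc_S_le)
open Cfsg.Agent.Omega.NO3b.Exit.TDat (Red)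
open Cfsg.Agent.Omega.NO3b.Exit.Bridge
open Cfsg.Agent.Omega.NO3b.BetaTwo (JB)
open Cfsg.Agent.Omega.NO3b.BasePt (PanSys)
open Cfsg.Agent.Omega.FFBr (XX im)

universe u v

variable {G : Type u} [Group G] [Finite G] {S : Sylow 2 G} {Y M B : Subgroup G}

namespace LocY

section fam

variable (g : LocY S Y M B) (hG : IsCharacteristicTwoType G) (hne : zc (S : Subgroup G) ≠ ⊥)
  {ι : Type v} {F T X : ι → Subgroup G}
  (f : ∀ i, Fl S (VB Y B) (F i) (T i)) (hZ : ∀ i, zc (S : Subgroup G) ≤ F i)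
  (p : ∀ i, Par (VB Y B) (F i) (T i) (X i))
include g hG hne f hZ p

/-- **`J = ⟨N_G(B), X i⟩` is 2-local** -/
theorem sys_loc [Nonempty ι] :
    ∃ R : Subgroup G, R ≠ ⊥ ∧ IsPGroup 2 R ∧ JB B X ≤ normalizer (R : Set G) := by
  have h2 : ∀ i, K0.Mix.Two (VB Y B) (X i) := fun i => g.two hG hne (f i) (hZ i) (p i)
  obtain ⟨R, hR, hR2, h3, h4⟩ := NO3b.Exit.exists_loc_fam FFBr.aStmt hG g.adm.lines F T X f p h2
  rw [g.adm.cs] at h3
  exact ⟨R, hR, hR2, sup_le h3 (iSup_le h4)⟩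

theorem sys_isLoc [Nonempty ι] : IsLoc (S : Subgroup G) (JB B X) := by
  obtain ⟨R, hR, hR2, h1⟩ := g.sys_loc hG hne f hZ p
  exact isLoc_of_le_normalizer S ((wc_S_le g.adm.wc).trans BetaTwo.NB_le_JB) hR2 hR h1

/-- `Y ≤ Ω₁(Z(O₂(J)))` -/
theorem sys_Y_le [Nonempty ι] : Y ≤ zc (o2 (JB B X)) :=
  g.seed.le _ (g.sys_isLoc hG hne f hZ p) BetaTwo.NB_le_JB

/-- `Y ≤ Ω₁(Z(O₂(J)))` for two panels -/
theorem sys_Y_le_pair (i j : ι) : Y ≤ zc (o2 (normalizer (B : Set G) ⊔ (X i ⊔ X j))) := by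
  have h1 := g.sys_Y_le hG hne (ι := Bool) (F := fun b => if b then F i else F j)
    (T := fun b => if b then T i else T j) (X := fun b => if b then X i else X j)
    (by rintro (_ | _); exacts [f j, f i]) (by rintro (_ | _); exacts [hZ j, hZ i])
    (by rintro (_ | _); exacts [p j, p i])
  have e : JB B (fun b : Bool => if b then X i else X j) = normalizer (B : Set G) ⊔ (X i ⊔ X j) := by
    rw [JB, iSup_bool_eq]
    rfl
  rwa [e] at h1

/-- **the panels of `V` form a system** -/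
theorem sys_pan (hK : Core (S : Subgroup G) Y) (hpar : ∀ R, IsParS (S : Subgroup G) R → R ≤ M)
    (hff : ∀ i j, ¬ NotFF (cl Y (normalizer (B : Set G) ⊔ (X i ⊔ X j)))) :
    PanSys (S : Subgroup G) (VB Y B) (normalizer (B : Set G)) F
      (fun i => cl Y (normalizer (B : Set G) ⊔ X i)) (fun i => normalizer (B : Set G) ⊔ X i) :=
  g.adm.panSys hG f p (fun i => g.two hG hne (f i) (hZ i) (p i)) (g.sys_Y_le_pair hG hne f hZ p) hff
    fun hH hU hM hVU => g.red hH hU hG hK hpar hM hVU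

end fam

end LocY

end Cfsg.Agent.Omega.NO3b.Seed

end

end
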